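import Cfsg.Agent.Lib.Recognition.AltSubconstituent

/-!
# Core-free maximal subgroups with a suborbit of length three: elementary facts

The situation: a core-free maximal subgroup `H`, a 2-subgroup `L` of index 3 in `H` and an element
outside `H` normalizing `L`.
-/

set_option autoImplicit false

namespace CfsgLib.Recognition.SubdegThree

open Subgroup CfsgLib.Maximal.TW
open scoped commutatorElement

variable {G : Type*} [Group G]

/-- The involutions (and identity) of the centre of `L`. -/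
def omegaCenter (L : Subgroup G) : Subgroup G where
  carrier := {z | z ∈ L ∧ z ∈ centralizer (L : Set G) ∧ z * z = 1}
  one_mem' := ⟨one_mem _, one_mem _, one_mul _⟩
  mul_mem' := by
    rintro a b ⟨ha, ha', ha2⟩ ⟨hb, hb', hb2⟩
    refine ⟨mul_mem ha hb, mul_mem ha' hb', ?_⟩
    have := mem_centralizer_iff.mp ha' b hb
    calc a * b * (a * b) = a * (b * a) * b := by group
      _ = a * (a * b) * b := by rw [this]
      _ = a * a * (b * b) := by group
      _ = 1 := by rw [ha2, hb2, one_mul]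
  inv_mem' := by
    rintro a ⟨ha, ha', ha2⟩
    exact ⟨inv_mem ha, inv_mem ha', by rw [← mul_inv_rev, ha2, inv_one]⟩

/-- The subgroup generated by the squares. -/
def squares (X : Subgroup G) : Subgroup G := closure {y | ∃ x ∈ X, x * x = y}

lemma squares_mono {X Y : Subgroup G} (h : X ≤ Y) : squares X ≤ squares Y :=
  closure_mono fun _ ⟨x, hx, he⟩ => ⟨x, h hx, he⟩

lemma squares_le (X : Subgroup G) : squares X ≤ X :=
  (closure_le _).mpr fun _ ⟨x, hx, he⟩ => he ▸ mul_mem hx hx

lemma sq_mem_squares {X : Subgroup G} {x : G} (hx : x ∈ X) : x * x ∈ squares X :=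
  subset_closure ⟨x, hx, rfl⟩

lemma map_squares (X : Subgroup G) (f : G →* G) : (squares X).map f = squares (X.map f) := by
  rw [squares, MonoidHom.map_closure, squares]
  congr 1
  ext y
  constructor
  · rintro ⟨_, ⟨x, hx, rfl⟩, rfl⟩
    exact ⟨f x, ⟨x, hx, rfl⟩, (map_mul f x x).symm⟩
  · rintro ⟨_, ⟨x, hx, rfl⟩, rfl⟩
    exact ⟨x * x, ⟨x, hx, rfl⟩, map_mul f x x⟩

lemma comm_of_sq {a b : G} (ha : a * a = 1) (hb : b * b = 1) (hab : (a * b) * (a * b) = 1) :
    a * b = b * a :=
  calc a * b = (a * b)⁻¹ := (inv_eq_of_mul_eq_one_right hab).symm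
    _ = b⁻¹ * a⁻¹ := mul_inv_rev a b
    _ = b * a := by rw [inv_eq_of_mul_eq_one_right hb, inv_eq_of_mul_eq_one_right ha]

lemma mem_normalizer_of_conj [Finite G] {T : Subgroup G} {q : G}
    (h : ∀ y ∈ T, q * y * q⁻¹ ∈ T) : q ∈ normalizer (T : Set G) := by
  have hle : T.map (MulAut.conj q).toMonoidHom ≤ T := by
    rintro _ ⟨y, hy, rfl⟩; exact h y hy
  have he := eq_of_le_of_card_ge hle (card_map_of_injective (MulAut.conj q).injective).ge
  rw [mem_normalizer_iff]
  intro y
  refine ⟨h y, fun hy => ?_⟩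
  rw [← he] at hy
  obtain ⟨z, hz, hzy⟩ := hy
  simp only [MulEquiv.toMonoidHom_eq_coe, MonoidHom.coe_coe, MulAut.conj_apply, mul_left_inj, mul_right_inj] at hzy
  exact hzy ▸ hz

/-- The conjugate of a subgroup. -/
abbrev cj (u : G) (X : Subgroup G) : Subgroup G := X.map (MulAut.conj u).toMonoidHom

lemma mem_cj {u y : G} {X : Subgroup G} : y ∈ cj u X ↔ u⁻¹ * y * u ∈ X := by
  constructor
  · rintro ⟨x, hx, rfl⟩
    simpa [mul_assoc] using hx
  · intro h
    exact ⟨u⁻¹ * y * u, h, by simp [mul_assoc]⟩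

lemma cj_cj (u v : G) (X : Subgroup G) : cj u (cj v X) = cj (u * v) X := by
  ext y
  simp [mem_cj, mul_assoc]

lemma cj_one (X : Subgroup G) : cj 1 X = X := by ext y; simp [mem_cj]

lemma cj_mono {u : G} {X Y : Subgroup G} (h : X ≤ Y) : cj u X ≤ cj u Y := map_mono h

/-- The hypotheses of the subdegree-three situation. -/
structure Data (H L : Subgroup G) (g : G) : Prop where
  hmax : IsCoatom H
  hcore : H.normalCore = ⊥
  hLH : L ≤ H
  hidx : L.relIndex H = 3
  hg : g ∈ normalizer (L : Set G)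
  hgH : g ∉ H
  h2 : IsPGroup 2 L

variable [Finite G] {H L : Subgroup G} {g : G} (D : Data H L g)
include D

lemma Data.ne_bot : H ≠ ⊥ := fun h => by
  have := D.hidx
  simp [h] at this

lemma Data.normalizer_eq_self : normalizer (H : Set G) = H :=
  normalizer_eq D.hmax D.hcore le_rfl D.ne_bot le_normalizer

lemma Data.eq_bot {N : Subgroup G} (h1 : N ≤ H) (h2 : H ≤ normalizer (N : Set G)) {n : G}
    (hn : n ∈ normalizer (N : Set G)) (hnH : n ∉ H) : N = ⊥ := by
  by_contra h
  exact hnH (normalizer_eq D.hmax D.hcore h1 h h2 ▸ hn)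

/-- A subgroup of `H` normalized by `H` and equal to its conjugate by an outside element is trivial. -/
lemma Data.eq_bot_of_cj {N : Subgroup G} (h1 : N ≤ H) (h2 : H ≤ normalizer (N : Set G)) {n : G}
    (hn : cj n N = N) (hnH : n ∉ H) : N = ⊥ :=
  D.eq_bot h1 h2 (mem_normalizer_of_conj fun y hy => hn ▸ (⟨y, hy, rfl⟩ : n * y * n⁻¹ ∈ cj n N)) hnH

lemma Data.eq_of_lt {T : Subgroup G} (h1 : L ≤ T) (h2 : T ≤ H) : T = L ∨ T = H := by
  have h := relIndex_mul_relIndex L T H h1 h2
  rw [D.hidx] at h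
  rcases (Nat.dvd_prime Nat.prime_three).mp ⟨_, h.symm⟩ with e | e
  · exact Or.inl (le_antisymm (relIndex_eq_one.mp e) h1)
  · rw [e] at h
    exact Or.inr (le_antisymm h2 (relIndex_eq_one.mp (by omega)))

lemma Data.eq_top_of_mem {T : Subgroup G} (h1 : L ≤ T) (h2 : T ≤ H) {y : G} (hy : y ∈ T)
    (hyL : y ∉ L) : T = H :=
  (D.eq_of_lt h1 h2).resolve_left fun h => hyL (h ▸ hy)

lemma Data.not_pgroup : ¬ IsPGroup 2 H := fun h => by
  have h3 : 3 ∣ Nat.card H := by
    rw [← relIndex_bot_left, ← relIndex_mul_relIndex ⊥ L H bot_le D.hLH, D.hidx]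
    exact dvd_mul_left 3 _
  obtain ⟨k, hk⟩ := IsPGroup.iff_card.mp h
  rw [hk] at h3
  exact absurd (Nat.prime_three.dvd_of_dvd_pow h3) (by decide)

lemma Data.core_le : coreIn H L ≤ L := coreIn_le_right H L

lemma Data.core_normal : H ≤ normalizer (coreIn H L : Set G) := le_normalizer_coreIn H L

lemma Data.le_core {N : Subgroup G} (h1 : N ≤ L) (h2 : H ≤ normalizer (N : Set G)) : N ≤ coreIn H L :=
  le_coreIn (h1.trans D.hLH) h1 h2

section NotNormal

variable (hnL : ¬ H ≤ normalizer (L : Set G))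
include hnL

lemma Data.normalizer_inf : ∀ {h : G}, h ∈ H → h ∈ normalizer (L : Set G) → h ∈ L := by
  intro h hh hn
  by_contra hhL
  exact hnL ((D.eq_top_of_mem (T := H ⊓ normalizer (L : Set G)) (le_inf D.hLH le_normalizer)
    inf_le_left ⟨hh, hn⟩ hhL).ge.trans inf_le_right)

lemma Data.core_relIndex : (coreIn H L).relIndex L = 2 := by
  have h1 : (coreIn H L).relIndex H ∣ Nat.factorial 3 := by
    have := WielandtBound.normalCore_index_dvd (L.subgroupOf H)
    rw [show (L.subgroupOf H).index = 3 from D.hidx] at this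
    rw [show (coreIn H L).relIndex H = (L.subgroupOf H).normalCore.index by
      rw [← AltSub.coreIn_subgroupOf]; rfl]
    exact this
  rw [← relIndex_mul_relIndex _ L H D.core_le D.hLH, D.hidx] at h1
  have h2 : (coreIn H L).relIndex L ∣ 2 := Nat.dvd_of_mul_dvd_mul_right (by norm_num : 0 < 3) h1
  rcases (Nat.dvd_prime Nat.prime_two).mp h2 with h | h
  · exact absurd (le_antisymm D.core_le (relIndex_eq_one.mp h) ▸ D.core_normal) hnL
  · exact h

lemma Data.mul_mem_core {x y : G} (hx : x ∈ L) (hy : y ∈ L) (hxA : x ∉ coreIn H L)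
    (hyA : y ∉ coreIn H L) : x * y ∈ coreIn H L := by
  have h := D.core_relIndex hnL
  have := (mul_mem_iff_of_index_two (a := (⟨x, hx⟩ : L)) (b := ⟨y, hy⟩) h).mpr
    (iff_of_false hxA hyA)
  exact this

lemma Data.sup_cj {h : G} (hh : h ∈ H) (hhL : h ∉ L) : L ⊔ cj h L = H := by
  rcases D.eq_of_lt (T := L ⊔ cj h L) le_sup_left (sup_le D.hLH (by
    rintro _ ⟨y, hy, rfl⟩
    exact H.mul_mem (H.mul_mem hh (D.hLH hy)) (H.inv_mem hh))) with e | e
  · exact absurd (D.normalizer_inf hnL hh (mem_normalizer_of_conj fun y hy =>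
      e.le ((le_sup_right : cj h L ≤ L ⊔ cj h L) ⟨y, hy, rfl⟩))) hhL
  · exact e

lemma Data.core_le_cj {h : G} (hh : h ∈ H) : coreIn H L ≤ cj h L := by
  rw [← AltSub.map_conj_eq (D.core_normal hh)]
  exact cj_mono D.core_le

lemma Data.inf_cj {h : G} (hh : h ∈ H) (hhL : h ∉ L) : L ⊓ cj h L = coreIn H L := by
  refine le_antisymm (fun y ⟨hy, hy'⟩ => by_contra fun hyA => hhL (D.normalizer_inf hnL hh ?_))
    (le_inf D.core_le (D.core_le_cj hnL hh))
  have hle : L ≤ cj h L := by
    intro z hz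
    by_cases hzA : z ∈ coreIn H L
    · exact D.core_le_cj hnL hh hzA
    · have := D.core_le_cj hnL hh (D.mul_mem_core hnL hz hy hzA hyA)
      simpa using (cj h L).mul_mem this ((cj h L).inv_mem hy')
  refine mem_normalizer_of_conj fun z hz => ?_
  rw [eq_of_le_of_card_ge hle (card_map_of_injective (MulAut.conj h).injective).le]
  exact ⟨z, hz, rfl⟩

lemma Data.double_coset {h k l : G} (hh : h ∈ H) (hhL : h ∉ L) (hk : k ∈ H) (hkL : k ∉ L)
    (hl : l ∈ L) (hlA : l ∉ coreIn H L) : h⁻¹ * k ∈ L ∨ (l * h)⁻¹ * k ∈ L := by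
  classical
  have : Fintype (H ⧸ L.subgroupOf H) := Fintype.ofFinite _
  have hc : Fintype.card (H ⧸ L.subgroupOf H) = 3 := by
    rw [← Nat.card_eq_fintype_card, ← index_eq_card]; exact D.hidx
  by_contra! hcon
  have key : ∀ {u v : H}, (u : G)⁻¹ * v ∉ L → (u : H ⧸ L.subgroupOf H) ≠ (v : H ⧸ L.subgroupOf H) := by
    intro u v huv he
    rw [QuotientGroup.eq, mem_subgroupOf] at he
    exact huv he
  let o : H := 1
  let qh : H := ⟨h, hh⟩
  let qk : H := ⟨k, hk⟩
  let ql : H := ⟨l * h, H.mul_mem (D.hLH hl) hh⟩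
  have n1 := key (u := o) (v := qh) (by simpa [o, qh] using hhL)
  have n2 := key (u := o) (v := qk) (by simpa [o, qk] using hkL)
  have n3 := key (u := o) (v := ql) (by
    intro he
    have he' : l * h ∈ L := by simpa [o, ql] using he
    exact hhL (by simpa using L.mul_mem (L.inv_mem hl) he'))
  have n4 := key (u := qh) (v := qk) hcon.1
  have n5 := key (u := ql) (v := qk) hcon.2
  have n6 := key (u := qh) (v := ql) (by
    intro he
    refine hlA (D.inf_cj hnL hh hhL ▸ ⟨hl, mem_cj.mpr ?_⟩)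
    simpa [qh, ql, mul_assoc] using he)
  have h4 : ({(o : H ⧸ L.subgroupOf H), (qh : H ⧸ L.subgroupOf H), (qk : H ⧸ L.subgroupOf H),
      (ql : H ⧸ L.subgroupOf H)} : Finset _).card = 4 := by
    simp [n1, n2, n3, n4, n5.symm, n6]
  have := Finset.card_le_univ ({(o : H ⧸ L.subgroupOf H), (qh : H ⧸ L.subgroupOf H), (qk : H ⧸ L.subgroupOf H),
      (ql : H ⧸ L.subgroupOf H)} : Finset _)
  omega

end NotNormal

end CfsgLib.Recognition.SubdegThree
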