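import Cfsg.Agent.Lib.Recognition.SubdegThree.Center

/-!
# Subdegree three: the critical distance is one
-/

set_option autoImplicit false

namespace CfsgLib.Recognition.SubdegThree

open Subgroup CfsgLib.Maximal.TW
open scoped commutatorElement

variable {G : Type*} [Group G] {H L : Subgroup G} {g : G}

local notation "Ac" => coreIn H L
local notation "Zc" => omegaCenter L
local notation "NL" => normalizer (L : Set G)
local notation "Vv" => vee H L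

/-- The elements moving to vertices at distance at most `k`. -/
def Reach (H L : Subgroup G) : ℕ → G → Prop
  | 0, t => t ∈ H
  | k + 1, t => ∃ h ∈ H, ∃ n ∈ normalizer (L : Set G), ∃ t', Reach H L k t' ∧ t = h * n * t'

lemma reach_left : ∀ {k : ℕ} {t h : G}, h ∈ H → Reach H L k t → Reach H L k (h * t)
  | 0, _, _, hh, ht => H.mul_mem hh ht
  | k + 1, _, h, hh, ⟨a, ha, n, hn, t', ht', he⟩ =>
    ⟨h * a, H.mul_mem hh ha, n, hn, t', ht', by rw [he]; group⟩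

lemma reach_right : ∀ {k : ℕ} {t h : G}, h ∈ H → Reach H L k t → Reach H L k (t * h)
  | 0, _, _, hh, ht => H.mul_mem ht hh
  | k + 1, _, h, hh, ⟨a, ha, n, hn, t', ht', he⟩ =>
    ⟨a, ha, n, hn, t' * h, reach_right hh ht', by rw [he]; group⟩

lemma reach_succ {k : ℕ} {t : G} (ht : Reach H L k t) : Reach H L (k + 1) t :=
  ⟨1, one_mem _, 1, one_mem _, t, ht, by group⟩

lemma reach_mono {j k : ℕ} (hjk : j ≤ k) {t : G} (ht : Reach H L j t) : Reach H L k t := by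
  induction hjk with
  | refl => exact ht
  | step _ ih => exact reach_succ ih

lemma reach_append : ∀ {k : ℕ} {t n : G}, n ∈ normalizer (L : Set G) → Reach H L k t → Reach H L (k + 1) (t * n)
  | 0, t, n, hn, ht => ⟨t, ht, n, hn, 1, H.one_mem, by group⟩
  | k + 1, _, n, hn, ⟨a, ha, m, hm, t', ht', he⟩ =>
    ⟨a, ha, m, hm, t' * n, reach_append hn ht', by rw [he]; group⟩

lemma reach_last : ∀ {k : ℕ} {t : G}, Reach H L (k + 1) t →
    ∃ s n h, Reach H L k s ∧ n ∈ normalizer (L : Set G) ∧ h ∈ H ∧ t = s * n * h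
  | 0, _, ⟨a, ha, m, hm, t', ht', he⟩ => ⟨a, m, t', ha, hm, ht', he⟩
  | k + 1, _, ⟨a, ha, m, hm, t', ht', he⟩ => by
    obtain ⟨s, n, h, hs, hn, hh, he'⟩ := reach_last ht'
    exact ⟨a * m * s, n, h, ⟨a, ha, m, hm, s, hs, rfl⟩, hn, hh, by rw [he, he']; group⟩

lemma reach_inv : ∀ {k : ℕ} {t : G}, Reach H L k t → Reach H L k t⁻¹
  | 0, _, ht => H.inv_mem ht
  | k + 1, _, ⟨a, ha, n, hn, t', ht', he⟩ => by
    rw [he, show (a * n * t')⁻¹ = t'⁻¹ * n⁻¹ * a⁻¹ by group]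
    exact reach_right (H.inv_mem ha) (reach_append (inv_mem hn) (reach_inv ht'))

lemma reach_mul : ∀ {i j : ℕ} {s t : G}, Reach H L i s → Reach H L j t → Reach H L (i + j) (s * t)
  | 0, j, _, _, hs, ht => by rw [Nat.zero_add]; exact reach_left hs ht
  | i + 1, j, _, t, ⟨a, ha, n, hn, t', ht', he⟩, ht => by
    rw [Nat.succ_add]
    exact ⟨a, ha, n, hn, t' * t, reach_mul ht' ht, by rw [he]; group⟩

variable [Finite G] (D : Data H L g) (hnL : ¬ H ≤ normalizer (L : Set G))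
include D

lemma Data.exists_reach (t : G) : ∃ k, Reach H L k t := by
  let T : Subgroup G :=
    { carrier := {t | ∃ k, Reach H L k t}
      one_mem' := ⟨0, H.one_mem⟩
      mul_mem' := fun ⟨i, hi⟩ ⟨j, hj⟩ => ⟨i + j, reach_mul hi hj⟩
      inv_mem' := fun ⟨i, hi⟩ => ⟨i, reach_inv hi⟩ }
  have hT : T = ⊤ := D.hmax.2 T (lt_of_le_of_ne (fun x hx => ⟨0, hx⟩) fun e => D.hgH (e ▸
    ⟨1, 1, H.one_mem, g, D.hg, 1, H.one_mem, by group⟩))
  exact (hT ▸ mem_top t : t ∈ T)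

lemma Data.cj_omega_le {h n : G} (hh : h ∈ H) (hn : n ∈ NL) : cj n Zc ≤ Zc ∧ cj h Zc ≤ Vv :=
  ⟨(D.omega_conj hn).le, le_trans le_rfl (le_iSup (fun h : H => cj (h : G) Zc) ⟨h, hh⟩)⟩

include hnL

lemma Data.cj_vee {h : G} (hh : h ∈ H) : cj h Vv = Vv := AltSub.map_conj_eq (D.vee_normal hnL hh)

lemma Data.cj_core {h : G} (hh : h ∈ H) : cj h Ac = Ac := AltSub.map_conj_eq (D.core_normal hh)

lemma Data.cj_L {n : G} (hn : n ∈ NL) : cj n L = L := AltSub.map_conj_eq hn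

lemma Data.comm_left {z₀ : G} (T : Transvection (H := H) (L := L) z₀) (hZA : Zc ≤ Ac) {v l : G}
    (hv : v ∈ Vv) (hl : l ∈ L) : ⁅l, v⁆ = 1 ∨ ⁅l, v⁆ = z₀ := by
  by_cases hvZ : v ∈ Zc
  · exact Or.inl (commutatorElement_eq_one_iff_mul_comm.mpr (mem_centralizer_iff.mp hvZ.2.1 l hl))
  by_cases hlA : l ∈ Ac
  · exact Or.inl (commutatorElement_eq_one_iff_mul_comm.mpr (D.vee_comm_core hnL hZA hv hlA).symm)
  right
  rw [← commutatorElement_inv, T.comm_eq v hv hvZ l hl hlA, inv_eq_of_mul_eq_one_right T.mem.2.2]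

/-- The critical distance cannot exceed one. -/
theorem Data.exists_line_crit (hZA : Zc ≤ Ac) : ∃ n ∈ NL, ¬ Vv ≤ cj n Ac := by
  classical
  by_contra! hb
  have hAA : Vv ≤ Ac := D.vee_le_core hnL hZA
  have hV0 : Vv ≠ ⊥ := fun h => D.omega_ne_bot hnL (le_bot_iff.mp (h ▸ D.omega_le_vee hnL))
  have hex : ∃ k t, Reach H L k t ∧ ¬ Vv ≤ cj t Ac := by
    by_contra! hc
    have hle : Vv ≤ H.normalCore := fun v hv x => by
      obtain ⟨k, hk⟩ := D.exists_reach x⁻¹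
      have h1 := mem_cj.mp (hc k _ hk hv)
      rw [inv_inv] at h1
      exact D.hLH (D.core_le h1)
    exact hV0 (le_bot_iff.mp (D.hcore ▸ hle))
  set b := Nat.find hex with hbdef
  obtain ⟨t, ht, htV⟩ := Nat.find_spec hex
  have hmin : ∀ {j : ℕ} {x : G}, j < b → Reach H L j x → Vv ≤ cj x Ac := fun hj hx =>
    not_not.mp fun hn => Nat.find_min hex hj ⟨_, hx, hn⟩
  obtain ⟨B, hB⟩ : ∃ B, b = B + 2 := by
    rcases Nat.lt_or_ge b 2 with h | h
    · exfalso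
      interval_cases hb' : b
      · rw [← hbdef] at ht
        rw [D.cj_core hnL (show t ∈ H from ht)] at htV
        exact htV hAA
      · rw [← hbdef] at ht
        obtain ⟨a, ha, n, hn, t', ht', rfl⟩ := ht
        rw [← cj_cj, D.cj_core hnL (show t' ∈ H from ht'), ← cj_cj] at htV
        refine htV ?_
        rw [← D.cj_vee hnL ha]
        exact cj_mono (hb n hn)
    · exact ⟨b - 2, by omega⟩
  rw [← hbdef, hB] at ht
  obtain ⟨a, ha, n₁, hn₁, t', ht', rfl⟩ := ht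
  obtain ⟨s', n', h', hs', hn', hh', rfl⟩ := reach_last ht'
  -- the path
  obtain ⟨s, hs⟩ : ∃ s, s = n₁ * s' := ⟨_, rfl⟩
  obtain ⟨u, hu⟩ : ∃ u, u = s * n' := ⟨_, rfl⟩
  have hsR : Reach H L (B + 1) s := ⟨1, H.one_mem, n₁, hn₁, s', hs', by rw [hs]; group⟩
  have hcritA : ¬ Vv ≤ cj u Ac := by
    intro hle
    refine htV ?_
    rw [show a * n₁ * (s' * n' * h') = a * (u * h') by rw [hu, hs]; group, ← cj_cj, cj_congr (D.core_normal hh'),
      ← D.cj_vee hnL ha]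
    exact cj_mono hle
  have hn₁H : n₁ ∉ H := fun h => hcritA (hu ▸ hmin (j := B + 1) (by omega)
    (reach_append hn' (hs ▸ reach_left h hs')))
  have hn'H : n' ∉ H := fun h => hcritA (hu ▸ hmin (j := B + 1) (by omega) (reach_right h hsR))
  have hcrit : Crit H L u := by
    refine ⟨?_, ?_, hcritA⟩
    · refine (hmin (j := B + 1) (by omega) hsR).trans ?_
      rw [hu, ← cj_cj, D.cj_L hnL hn']
      exact cj_mono D.core_le
    · have h1 : Vv ≤ cj (u⁻¹ * n₁) Ac := by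
        refine hmin (j := B + 1) (by omega) ?_
        rw [hu, hs, show (n₁ * s' * n')⁻¹ * n₁ = n'⁻¹ * s'⁻¹ by group]
        exact ⟨1, H.one_mem, n'⁻¹, inv_mem hn', s'⁻¹, reach_inv hs', by group⟩
      refine (cj_mono h1).trans ?_
      rw [cj_cj, mul_inv_cancel_left]
      exact (cj_mono D.core_le).trans (D.cj_L hnL hn₁).le
  obtain ⟨z₀, T⟩ := D.exists_transvection hnL hZA hcrit
  have hz₀V : z₀ ∈ Vv := D.omega_le_vee hnL T.mem
  have hA0 : Ac ≠ ⊥ := D.core_ne_of_omega hnL hZA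
  obtain ⟨q, hq, hqA, -, -⟩ := D.crit_props hnL hZA hcrit
  have hqL : q ∈ L := hcrit.2.1 hq
  -- conjugated commutator facts
  have hcm : ∀ m ∈ NL, ∀ l ∈ L, ∀ y ∈ cj m Vv, ⁅l, y⁆ = 1 ∨ ⁅l, y⁆ = m * z₀ * m⁻¹ := by
    intro m hm l hl y hy
    have hl' : m⁻¹ * l * m ∈ L := by
      have := (mem_normalizer_iff.mp (inv_mem hm) l).mp hl
      rwa [inv_inv] at this
    have e : ⁅l, y⁆ = m * ⁅m⁻¹ * l * m, m⁻¹ * y * m⁆ * m⁻¹ := by simp only [commutatorElement_def]; group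
    rcases D.comm_left hnL T hZA (mem_cj.mp hy) hl' with h | h
    · exact Or.inl (by rw [e, h]; group)
    · exact Or.inr (by rw [e, h])
  have hcjA : ∀ m ∈ NL, m ∉ H → ¬ Ac ≤ cj m Ac := fun m hm hmH hle =>
    hA0 (D.eq_bot_of_cj (D.core_le.trans D.hLH) D.core_normal
      (eq_of_le_of_card_ge hle (card_map_of_injective (MulAut.conj m).injective).le).symm hmH)
  obtain ⟨v₁, hv₁, hv₁Z⟩ : ∃ v₁ ∈ Vv, v₁ ∉ Zc := by
    by_contra! hc
    exact D.omega_not_normal hnL (le_antisymm hc (D.omega_le_vee hnL) ▸ D.vee_normal hnL)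
  -- propagation
  have hU : ∀ m ∈ NL, m ∉ H → ∀ h ∈ H, h ∉ L → cj (h * m) Vv ≤ cj s Ac →
      H ≤ normalizer ((Vv ⊔ cj m Vv : Subgroup G) : Set G) ∧
        (m * z₀ * m⁻¹) ∈ centralizer (H : Set G) := by
    intro m hm hmH h hh hhL hle
    have hVU : Vv ≤ Vv ⊔ cj h⁻¹ (cj (h * m) Vv) := le_sup_left
    rw [cj_cj, inv_mul_cancel_left] at hVU
    have hmL : cj m Vv ≤ L := (cj_mono (hAA.trans D.core_le)).trans (D.cj_L hnL hm).le
    have hLn : ∀ l ∈ L, cj l (Vv ⊔ cj m Vv) = Vv ⊔ cj m Vv := fun l hl => by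
      rw [cj, Subgroup.map_sup, ← cj, D.cj_vee hnL (D.hLH hl), ← cj, cj_cj,
        show l * m = m * (m⁻¹ * l * m) by group, cj_congr (D.vee_normal hnL (D.hLH ?_))]
      have := (mem_normalizer_iff.mp (inv_mem hm) l).mp hl
      rwa [inv_inv] at this
    have hqn : h⁻¹ * q * h ∈ normalizer ((Vv ⊔ cj m Vv : Subgroup G) : Set G) := by
      refine mem_normalizer_of_conj fun y hy => ?_
      have hsub : cj (h⁻¹ * q * h) (Vv ⊔ cj m Vv) ≤ Vv ⊔ cj m Vv := by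
        rw [cj, Subgroup.map_sup, ← cj, D.cj_vee hnL (H.mul_mem (H.mul_mem (H.inv_mem hh) (D.hLH hqL)) hh)]
        refine sup_le le_sup_left ?_
        rintro _ ⟨w, hw, rfl⟩
        have hw' : h * w * h⁻¹ ∈ cj (h * m) Vv := by
          rw [← cj_cj]; exact ⟨w, hw, rfl⟩
        have hwL : u⁻¹ * (h * w * h⁻¹) * u ∈ L := by
          have h1 := mem_cj.mp (hle hw')
          have h2 : n'⁻¹ * (s⁻¹ * (h * w * h⁻¹) * s) * n' ∈ L := by
            have := (mem_normalizer_iff.mp (inv_mem hn') _).mp (D.core_le h1)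
            rwa [inv_inv] at this
          rw [hu]
          convert h2 using 1
          group
        have hqV : u⁻¹ * q * u ∈ Vv := mem_cj.mp hq
        have hval : ⁅q, h * w * h⁻¹⁆ = 1 ∨ ⁅q, h * w * h⁻¹⁆ = z₀ := by
          have e : ⁅q, h * w * h⁻¹⁆ = u * (⁅u⁻¹ * (h * w * h⁻¹) * u, u⁻¹ * q * u⁆)⁻¹ * u⁻¹ := by
            simp only [commutatorElement_def]; group
          rcases D.comm_left hnL T hZA hqV hwL with e' | e'
          · exact Or.inl (by rw [e, e']; group)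
          · exact Or.inr (by rw [e, e', inv_eq_of_mul_eq_one_right T.mem.2.2, T.fixed u hcrit])
        have hval' : h⁻¹ * ⁅q, h * w * h⁻¹⁆ * h ∈ Vv := by
          have hmem : ⁅q, h * w * h⁻¹⁆ ∈ Vv := by
            rcases hval with e | e <;> rw [e]
            · exact one_mem _
            · exact hz₀V
          have := (mem_normalizer_iff.mp (D.vee_normal hnL (H.inv_mem hh)) _).mp hmem
          rwa [inv_inv] at this
        show h⁻¹ * q * h * w * (h⁻¹ * q * h)⁻¹ ∈ Vv ⊔ cj m Vv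
        rw [show h⁻¹ * q * h * w * (h⁻¹ * q * h)⁻¹ = (h⁻¹ * ⁅q, h * w * h⁻¹⁆ * h) * w by
          simp only [commutatorElement_def]; group]
        exact mul_mem (mem_sup_left hval') (mem_sup_right hw)
      exact hsub ⟨y, hy, rfl⟩
    have hqhL : h⁻¹ * q * h ∉ L := fun hm' => by
      refine hqA ?_
      rw [← D.inf_cj hnL hh hhL]
      exact ⟨hqL, mem_cj.mpr hm'⟩
    have hn : H ≤ normalizer ((Vv ⊔ cj m Vv : Subgroup G) : Set G) := by
      exact (D.eq_top_of_mem (T := H ⊓ normalizer ((Vv ⊔ cj m Vv : Subgroup G) : Set G))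
        (le_inf D.hLH fun l hl => mem_normalizer_of_conj fun y hy => (hLn l hl).le ⟨y, hy, rfl⟩) inf_le_left
        (y := h⁻¹ * q * h) ⟨H.mul_mem (H.mul_mem (H.inv_mem hh) (D.hLH hqL)) hh, hqn⟩ hqhL).ge.trans inf_le_right
    refine ⟨hn, ?_⟩
    -- the value of commutators of `A` with `U`
    have hAU : ∀ x ∈ Ac, ∀ y ∈ Vv ⊔ cj m Vv, ⁅x, y⁆ = 1 ∨ ⁅x, y⁆ = m * z₀ * m⁻¹ := by
      intro x hx y hy
      have hnv : cj m Vv ≤ normalizer (Vv : Set G) := hmL.trans (D.hLH.trans (D.vee_normal hnL))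
      have hy' : y ∈ ((Vv ⊔ cj m Vv : Subgroup G) : Set G) := hy
      rw [coe_mul_of_right_le_normalizer_left _ _ hnv] at hy'
      obtain ⟨v, hv, w, hw, rfl⟩ := hy'
      have hzm : m * z₀ * m⁻¹ ∈ Zc := (D.omega_conj hm).le ⟨z₀, T.mem, rfl⟩
      have e : ⁅x, v * w⁆ = v * ⁅x, w⁆ * v⁻¹ := by
        simp only [commutatorElement_def]
        calc x * (v * w) * x⁻¹ * (v * w)⁻¹ = x * v * x⁻¹ * (x * w * x⁻¹ * w⁻¹) * v⁻¹ := by group
          _ = v * (x * w * x⁻¹ * w⁻¹) * v⁻¹ := by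
            rw [← D.vee_comm_core hnL hZA hv hx]; group
      rcases hcm m hm x (D.core_le hx) w hw with h1 | h1
      · exact Or.inl (by rw [e, h1]; group)
      · refine Or.inr ?_
        rw [e, h1, show v * (m * z₀ * m⁻¹) = m * z₀ * m⁻¹ * v from
          mem_centralizer_iff.mp hzm.2.1 v (D.core_le (hAA hv))]
        group
    obtain ⟨x, hx, hxm⟩ := SetLike.not_le_iff_exists.mp (hcjA m hm hmH)
    have hxl : m⁻¹ * x * m ∈ L := by
      have := (mem_normalizer_iff.mp (inv_mem hm) x).mp (D.core_le hx)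
      rwa [inv_inv] at this
    have h1 := T.comm_eq v₁ hv₁ hv₁Z _ hxl (fun h => hxm (mem_cj.mpr h))
    have hval : ⁅x, m * v₁ * m⁻¹⁆ = m * z₀ * m⁻¹ := by
      rw [← inv_eq_of_mul_eq_one_right T.mem.2.2, ← h1]
      simp only [commutatorElement_def]; group
    rw [mem_centralizer_iff]
    intro k hk
    have h2 := hAU (k * x * k⁻¹) ((mem_normalizer_iff.mp (D.core_normal hk) x).mp hx)
      (k * (m * v₁ * m⁻¹) * k⁻¹) ((mem_normalizer_iff.mp (hn hk) _).mp (mem_sup_right ⟨v₁, hv₁, rfl⟩))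
    have e : ⁅k * x * k⁻¹, k * (m * v₁ * m⁻¹) * k⁻¹⁆ = k * (m * z₀ * m⁻¹) * k⁻¹ := by
      rw [← hval]; simp only [commutatorElement_def]; group
    rw [e] at h2
    rcases h2 with h2 | h2
    · exfalso
      have : z₀ = 1 := by
        calc z₀ = (k * m)⁻¹ * (k * (m * z₀ * m⁻¹) * k⁻¹) * (k * m) := by group
          _ = 1 := by rw [h2]; group
      exact T.ne_one this
    · calc k * (m * z₀ * m⁻¹) = k * (m * z₀ * m⁻¹) * k⁻¹ * k := by group
        _ = m * z₀ * m⁻¹ * k := by rw [h2]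
  obtain ⟨s₃, n₃, h₃, hs₃, hn₃, hh₃, hse⟩ := reach_last hsR
  have hR : ∀ m ∈ NL, m ∉ H → m * z₀ * m⁻¹ ∈ centralizer (H : Set G) := by
    intro m hm hmH
    by_cases hcase : ∃ h ∈ H, h ∉ L ∧ cj (h * m) Vv ≤ cj s Ac
    · obtain ⟨h, hh, hhL, hle⟩ := hcase
      exact (hU m hm hmH h hh hhL hle).2
    push Not at hcase
    have hval : ∀ h ∈ H, h ∉ L → h * (m * z₀ * m⁻¹) * h⁻¹ = (s₃ * n₃) * z₀ * (s₃ * n₃)⁻¹ := by
      intro h hh hhL
      obtain ⟨u₂, hu₂⟩ : ∃ u₂, u₂ = m⁻¹ * h⁻¹ * s₃ * n₃ := ⟨_, rfl⟩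
      have hc : Crit H L u₂ := by
        refine ⟨?_, ?_, ?_⟩
        · refine (hmin (j := B + 1) (by omega) (x := m⁻¹ * h⁻¹ * s₃)
            ⟨1, H.one_mem, m⁻¹, inv_mem hm, h⁻¹ * s₃, reach_left (H.inv_mem hh) hs₃, by group⟩).trans ?_
          rw [hu₂, ← cj_cj _ n₃, D.cj_L hnL hn₃]
          exact cj_mono D.core_le
        · have h1 : Vv ≤ cj (u₂⁻¹ * m⁻¹) Ac := by
            refine hmin (j := B + 1) (by omega) ?_
            rw [hu₂, show (m⁻¹ * h⁻¹ * s₃ * n₃)⁻¹ * m⁻¹ = n₃⁻¹ * (s₃⁻¹ * h) by group]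
            exact ⟨1, H.one_mem, n₃⁻¹, inv_mem hn₃, _, reach_right hh (reach_inv hs₃), by group⟩
          refine (cj_mono h1).trans ?_
          rw [cj_cj, mul_inv_cancel_left]
          exact (cj_mono D.core_le).trans (D.cj_L hnL (inv_mem hm)).le
        · intro hle
          refine hcase h hh hhL ?_
          have h1 := cj_mono (u := h * m) hle
          rw [cj_cj, hu₂, show h * m * (m⁻¹ * h⁻¹ * s₃ * n₃) = s₃ * n₃ by group] at h1
          rw [hse, cj_congr (D.core_normal hh₃)]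
          exact h1
      have := T.fixed u₂ hc
      calc h * (m * z₀ * m⁻¹) * h⁻¹ = h * (m * (u₂ * z₀ * u₂⁻¹) * m⁻¹) * h⁻¹ := by rw [this]
        _ = _ := by rw [hu₂]; group
    obtain ⟨h, hh, hhL⟩ := SetLike.not_le_iff_exists.mp (fun h : H ≤ L => hnL (h.trans le_normalizer))
    obtain ⟨y, hy⟩ : ∃ y, y = m * z₀ * m⁻¹ := ⟨_, rfl⟩
    have hyZ : y ∈ Zc := hy ▸ (D.omega_conj hm).le ⟨z₀, T.mem, rfl⟩
    have hfix : ∀ l ∈ L, l * (h * y * h⁻¹) = h * y * h⁻¹ * l := by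
      intro l hl
      have hl' : l * h ∉ L := fun hm' => hhL (by simpa using L.mul_mem (L.inv_mem hl) hm')
      have e := (hval (l * h) (H.mul_mem (D.hLH hl) hh) hl').trans (hval h hh hhL).symm
      rw [← hy] at e
      calc l * (h * y * h⁻¹) = l * h * y * (l * h)⁻¹ * l := by group
        _ = h * y * h⁻¹ * l := by rw [e]
    rw [← hy]
    have hle : L ⊔ cj h⁻¹ L ≤ centralizer ({y} : Set G) := by
      refine sup_le (fun l hl => mem_centralizer_singleton_iff.mpr (mem_centralizer_iff.mp hyZ.2.1 l hl)) ?_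
      rintro _ ⟨l, hl, rfl⟩
      rw [mem_centralizer_singleton_iff]
      show h⁻¹ * l * h⁻¹⁻¹ * y = y * (h⁻¹ * l * h⁻¹⁻¹)
      calc h⁻¹ * l * h⁻¹⁻¹ * y = h⁻¹ * (l * (h * y * h⁻¹)) * h := by group
        _ = h⁻¹ * (h * y * h⁻¹ * l) * h := by rw [hfix l hl]
        _ = _ := by group
    rw [D.sup_cj hnL (H.inv_mem hh) (fun h' => hhL (by simpa using L.inv_mem h'))] at hle
    rw [mem_centralizer_iff]
    intro k hk
    exact mem_centralizer_singleton_iff.mp (hle hk)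
  -- only one central involution
  obtain ⟨c, hc⟩ : ∃ c, c = g * z₀ * g⁻¹ := ⟨_, rfl⟩
  have hcZ : c ∈ Zc := hc ▸ (D.omega_conj D.hg).le ⟨z₀, T.mem, rfl⟩
  have hcH : c ∈ centralizer (H : Set G) := hc ▸ hR g D.hg D.hgH
  have hc1 : c ≠ 1 := by
    rw [hc]; intro e; exact T.ne_one (by simpa [mul_assoc] using congrArg (fun y => g⁻¹ * y * g) e)
  obtain ⟨Z1, hZ1⟩ : ∃ Z1, Z1 = Zc ⊓ centralizer (H : Set G) := ⟨_, rfl⟩
  have hcard : Nat.card Z1 ≤ 2 := by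
    have hfix : ∀ h ∈ H, ∀ y ∈ Z1, h * y * h⁻¹ = y := fun h hh y hy => by
      rw [mem_centralizer_iff.mp (hZ1 ▸ hy : y ∈ Zc ⊓ centralizer (H : Set G)).2 h hh, mul_inv_cancel_right]
    obtain ⟨h, hh, hhL⟩ := SetLike.not_le_iff_exists.mp (fun h : H ≤ L => hnL (h.trans le_normalizer))
    have hcentral : ∀ y ∈ Zc, h * y * h⁻¹ ∈ Zc → y ∈ Z1 := by
      intro y hy hy'
      rw [hZ1]
      refine ⟨hy, mem_centralizer_iff.mpr fun k hk => ?_⟩
      have hle : L ⊔ cj h⁻¹ L ≤ centralizer ({y} : Set G) := by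
        refine sup_le (fun l hl => mem_centralizer_singleton_iff.mpr (mem_centralizer_iff.mp hy.2.1 l hl)) ?_
        rintro _ ⟨l, hl, rfl⟩
        rw [mem_centralizer_singleton_iff]
        show h⁻¹ * l * h⁻¹⁻¹ * y = y * (h⁻¹ * l * h⁻¹⁻¹)
        calc h⁻¹ * l * h⁻¹⁻¹ * y = h⁻¹ * (l * (h * y * h⁻¹)) * h := by group
          _ = h⁻¹ * (h * y * h⁻¹ * l) * h := by rw [mem_centralizer_iff.mp hy'.2.1 l hl]
          _ = _ := by group
      rw [D.sup_cj hnL (H.inv_mem hh) (fun h' => hhL (by simpa using L.inv_mem h'))] at hle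
      exact mem_centralizer_singleton_iff.mp (hle hk)
    obtain ⟨-, -, -, -, hidx⟩ := D.crit_props hnL hZA hcrit
    have h2 : Z1.relIndex Zc ≤ 2 := by
      refine relIndex_le_two fun y₁ hy₁ hn₁' y₂ hy₂ hn₂' => ?_
      have i1 : h * y₁ * h⁻¹ ∈ Vv := (D.cj_omega_le hh hn₁).2 ⟨y₁, hy₁, rfl⟩
      have i2 : h * y₂ * h⁻¹ ∈ Vv := (D.cj_omega_le hh hn₁).2 ⟨y₂, hy₂, rfl⟩
      have i3 := hidx _ i1 (fun e => hn₁' (hcentral y₁ hy₁ e)) _ i2 (fun e => hn₂' (hcentral y₂ hy₂ e))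
      refine hcentral _ (mul_mem (inv_mem hy₁) hy₂) ?_
      convert i3 using 1
      group
    have hle : Z1 ≤ Zc := hZ1 ▸ inf_le_left
    have hgle : cj g Z1 ≤ Zc := (cj_mono hle).trans (D.omega_conj D.hg).le
    have hdis : Z1 ⊓ cj g Z1 = ⊥ := by
      obtain ⟨k, hk, hkH⟩ : ∃ k ∈ cj g H, k ∉ H := by
        by_contra! hsub
        refine D.hgH (D.normalizer_eq_self ▸ mem_normalizer_of_conj fun y hy => hsub _ ⟨y, hy, rfl⟩)
      refine D.eq_bot ((inf_le_left.trans hle).trans fun y hy => D.hLH hy.1) ?_ (n := k) ?_ hkH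
      · intro x hx
        refine mem_normalizer_of_conj fun y hy => ?_
        rw [hfix x hx y hy.1]; exact hy
      · refine mem_normalizer_of_conj fun y hy => ?_
        have h1 := hfix _ (mem_cj.mp hk) _ (mem_cj.mp hy.2)
        rw [show k * y * k⁻¹ = g * (g⁻¹ * k * g * (g⁻¹ * y * g) * (g⁻¹ * k * g)⁻¹) * g⁻¹ by group, h1,
          show g * (g⁻¹ * y * g) * g⁻¹ = y by group]
        exact hy
    have h3 : Z1.relIndex (cj g Z1) ≤ Z1.relIndex Zc := Nat.le_of_dvd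
      (Nat.pos_of_ne_zero index_ne_zero_of_finite)
      (AltSub.relIndex_dvd_relIndex hgle (fun y hy => mem_normalizer_of_conj fun w hw => by
        rw [← mem_centralizer_iff.mp hy.2.1 w (D.core_le (hZA (hle hw))), mul_inv_cancel_right]
        exact hw))
    rw [← inf_relIndex_right, hdis, relIndex_bot_left, card_map_of_injective (f := (MulAut.conj g).toMonoidHom) (MulAut.conj g).injective] at h3
    exact h3.trans h2
  have hzc : ∀ m ∈ NL, m ∉ H → m * z₀ * m⁻¹ = c := by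
    intro m hm hmH
    have hy : m * z₀ * m⁻¹ ∈ Z1 := by
      rw [hZ1]; exact ⟨(D.omega_conj hm).le ⟨z₀, T.mem, rfl⟩, hR m hm hmH⟩
    refine (eq_one_or_eq hcard (hZ1 ▸ ⟨hcZ, hcH⟩) hc1 hy).resolve_left fun e => T.ne_one ?_
    simpa [mul_assoc] using congrArg (fun y => m⁻¹ * y * m) e
  have hcz : ∀ m ∈ NL, m ∉ H → m * c * m⁻¹ = z₀ := by
    intro m hm hmH
    rw [← hzc m⁻¹ (inv_mem hm) (fun h => hmH (by simpa using H.inv_mem h))]
    group
  -- the centralizer of `c`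
  have hCc : ∀ x : G, x * c * x⁻¹ = c → x ∈ H := by
    intro x hx
    rw [← normalizer_eq D.hmax D.hcore (X := zpowers c) ((zpowers_le).mpr (D.hLH hcZ.1)) (by simpa using hc1)
      (fun k hk => mem_normalizer_of_conj fun y hy => by
        obtain ⟨i, rfl⟩ := hy
        refine ⟨i, ?_⟩
        show c ^ i = k * c ^ i * k⁻¹
        rw [((show Commute k c from mem_centralizer_iff.mp hcH k hk).zpow_right i).eq, mul_inv_cancel_right])]
    refine mem_normalizer_of_conj fun y hy => ?_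
    obtain ⟨i, rfl⟩ := hy
    exact ⟨i, show c ^ i = x * c ^ i * x⁻¹ by rw [← conj_zpow, hx]⟩
  have hpair : ∀ m ∈ NL, m ∉ H → ∀ m' ∈ NL, m' ∉ H → m * m' ∈ H := by
    intro m hm hmH m' hm' hm'H
    refine hCc _ ?_
    calc m * m' * c * (m * m')⁻¹ = m * (m' * c * m'⁻¹) * m⁻¹ := by group
      _ = c := by rw [hcz m' hm' hm'H, hzc m hm hmH]
  have hB0 : B = 0 := by
    by_contra hB0
    have e : u * z₀ * u⁻¹ = z₀ := T.fixed u hcrit
    have hsn : s⁻¹ * n₁ ∈ H := by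
      refine hCc _ ?_
      have h1 : s * c * s⁻¹ = z₀ := by
        rw [← hzc n' hn' hn'H]
        calc s * (n' * z₀ * n'⁻¹) * s⁻¹ = u * z₀ * u⁻¹ := by rw [hu]; group
          _ = z₀ := e
      calc s⁻¹ * n₁ * c * (s⁻¹ * n₁)⁻¹ = s⁻¹ * (n₁ * c * n₁⁻¹) * s := by group
        _ = s⁻¹ * (s * c * s⁻¹) * s := by rw [hcz n₁ hn₁ hn₁H, h1]
        _ = c := by group
    refine hcritA (hmin (j := 2) (by omega) ?_)
    rw [show u = n₁ * ((s⁻¹ * n₁)⁻¹ * n') by rw [hu]; group]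
    refine ⟨1, H.one_mem, n₁, hn₁, (s⁻¹ * n₁)⁻¹ * n', ⟨(s⁻¹ * n₁)⁻¹, H.inv_mem hsn, n', hn', 1, H.one_mem, by group⟩, by group⟩
  subst hB0
  have hs'H : s' ∈ H := hs'
  -- the neighbour groups
  obtain ⟨W, hW⟩ : ∃ W, W = cj g Vv := ⟨_, rfl⟩
  obtain ⟨Bc, hBc⟩ : ∃ Bc, Bc = cj g Ac := ⟨_, rfl⟩
  have hgi : g⁻¹ ∈ NL := inv_mem D.hg
  have hgiH : g⁻¹ ∉ H := fun h => D.hgH (by simpa using H.inv_mem h)
  have hWA : W ≤ Ac := by
    rw [hW]
    refine (cj_mono (hb g⁻¹ hgi)).trans ?_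
    rw [cj_cj, mul_inv_cancel, cj_one]
  have hVB : Vv ≤ Bc := hBc ▸ hb g D.hg
  have hBL : Bc ≤ L := hBc.le.trans ((cj_mono D.core_le).trans (D.cj_L hnL D.hg).le)
  obtain ⟨h₀, hh₀, hh₀W⟩ : ∃ h₀ ∈ H, ¬ W ≤ cj h₀ Bc := by
    refine ⟨s', hs'H, fun hle => hcritA ?_⟩
    have h1 := cj_mono (u := n₁) hle
    rw [hW, hBc, cj_cj, cj_cj, cj_cj, D.cj_vee hnL (hpair n₁ hn₁ hn₁H g D.hg D.hgH),
      show n₁ * s' * g = u * (n'⁻¹ * g) by rw [hu, hs]; group,
      cj_congr (D.core_normal (hpair n'⁻¹ (inv_mem hn') (fun h => hn'H (by simpa using H.inv_mem h)) g D.hg D.hgH))] at h1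
    exact h1
  have hcjW : ∀ l ∈ L, cj l W = W := fun l hl => by
    rw [hW, cj_cj, show l * g = g * (g⁻¹ * l * g) by group, cj_congr (D.vee_normal hnL (D.hLH ?_))]
    have := (mem_normalizer_iff.mp hgi l).mp hl
    rwa [inv_inv] at this
  have hcjB : ∀ l ∈ L, cj l Bc = Bc := fun l hl => by
    rw [hBc, cj_cj, show l * g = g * (g⁻¹ * l * g) by group, cj_congr (D.core_normal (D.hLH ?_))]
    have := (mem_normalizer_iff.mp hgi l).mp hl
    rwa [inv_inv] at this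
  have hWB : W ≤ Bc := hW ▸ hBc ▸ cj_mono hAA
  have hh₀L : h₀ ∉ L := fun h => hh₀W ((hcjB h₀ h).symm ▸ hWB)
  -- every other conjugate sees `W`
  have hall : ∀ k ∈ H, k ∉ L → ¬ W ≤ cj k Bc := by
    intro k hk hkL hle
    obtain ⟨l₁, hl₁, hl₁A⟩ := SetLike.not_le_iff_exists.mp
      (fun h : L ≤ Ac => hnL ((le_antisymm h D.core_le) ▸ D.core_normal))
    rcases D.double_coset hnL hh₀ hh₀L hk hkL hl₁ hl₁A with hl | hl
    · refine hh₀W ?_
      rw [← hcjB _ hl, cj_cj, show h₀ * (h₀⁻¹ * k) = k by group]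
      exact hle
    · refine hh₀W ?_
      have h1 : cj (l₁ * h₀) Bc = cj k Bc := by
        conv_lhs => rw [← hcjB _ hl]
        rw [cj_cj, show l₁ * h₀ * ((l₁ * h₀)⁻¹ * k) = k by group]
      rw [← h1, ← cj_cj, ← hcjW l₁ hl₁] at hle
      exact (Subgroup.map_le_map_iff_of_injective (MulAut.conj l₁).injective).mp hle
  obtain ⟨w, hw⟩ : ∃ w, w = g * v₁ * g⁻¹ := ⟨_, rfl⟩
  have hwW : w ∈ W := hW ▸ ⟨v₁, hv₁, hw.symm⟩
  have hwA : w ∈ Ac := hWA hwW
  have hww : w * w = 1 := by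
    rw [hw, show g * v₁ * g⁻¹ * (g * v₁ * g⁻¹) = g * (v₁ * v₁) * g⁻¹ by group, D.vee_sq hnL hZA hv₁]; group
  have hkL' : ∀ {k : G}, k ∈ H → k * w * k⁻¹ ∈ Ac := fun hk => (mem_normalizer_iff.mp (D.core_normal hk) w).mp hwA
  have hnB : ∀ k ∈ H, k ∉ L → k * w * k⁻¹ ∉ Bc := by
    intro k hk hkL hkB
    refine hall k⁻¹ (H.inv_mem hk) (fun h => hkL (by simpa using L.inv_mem h)) ?_
    intro y hy
    rw [mem_cj, inv_inv]
    rw [hW] at hy
    obtain ⟨v, hv, rfl⟩ := hy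
    show k * (g * v * g⁻¹) * k⁻¹ ∈ Bc
    have hzB : ∀ z ∈ Zc, k * (g * z * g⁻¹) * k⁻¹ ∈ Bc := fun z hz => by
      have hz' : g * z * g⁻¹ ∈ Zc := (D.omega_conj D.hg).le ⟨z, hz, rfl⟩
      exact hVB ((D.cj_omega_le hk D.hg).2 ⟨_, hz', rfl⟩)
    by_cases hvZ : v ∈ Zc
    · exact hzB v hvZ
    obtain ⟨-, -, -, -, hidx⟩ := D.crit_props hnL hZA hcrit
    have hz := hidx v₁ hv₁ hv₁Z v hv hvZ
    rw [show k * (g * v * g⁻¹) * k⁻¹ = (k * w * k⁻¹) * (k * (g * (v₁⁻¹ * v) * g⁻¹) * k⁻¹) by rw [hw]; group]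
    exact Bc.mul_mem hkB (hzB _ hz)
  have hcomm : ∀ k ∈ H, k ∉ L → ⁅w, k * w * k⁻¹⁆ = c := by
    intro k hk hkL
    have hl : g⁻¹ * (k * w * k⁻¹) * g ∈ L := by
      have := (mem_normalizer_iff.mp hgi _).mp (D.core_le (hkL' hk))
      rwa [inv_inv] at this
    have hlA : g⁻¹ * (k * w * k⁻¹) * g ∉ Ac := fun h => hnB k hk hkL (hBc ▸ mem_cj.mpr h)
    have h1 := T.comm_eq v₁ hv₁ hv₁Z _ hl hlA
    rw [hc, ← h1, hw]
    simp only [commutatorElement_def]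
    group
  obtain ⟨l₁, hl₁, hl₁A⟩ := SetLike.not_le_iff_exists.mp
    (fun h : L ≤ Ac => hnL ((le_antisymm h D.core_le) ▸ D.core_normal))
  have hl₀L : l₁ * h₀ ∉ L := fun h => hh₀L (by simpa using L.mul_mem (L.inv_mem hl₁) h)
  have hl₀H : l₁ * h₀ ∈ H := H.mul_mem (D.hLH hl₁) hh₀
  obtain ⟨w₂, hw₂⟩ : ∃ w₂, w₂ = h₀ * w * h₀⁻¹ := ⟨_, rfl⟩
  obtain ⟨w₃, hw₃⟩ : ∃ w₃, w₃ = (l₁ * h₀) * w * (l₁ * h₀)⁻¹ := ⟨_, rfl⟩
  have hw₂A : w₂ ∈ Ac := hw₂ ▸ hkL' hh₀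
  have hw₃A : w₃ ∈ Ac := hw₃ ▸ hkL' hl₀H
  have hmulB : ∀ x ∈ L, x ∉ Bc → ∀ y ∈ L, y ∉ Bc → x * y ∈ Bc := by
    intro x hx hxB y hy hyB
    have cl : ∀ z ∈ L, g⁻¹ * z * g ∈ L := fun z hz => by
      have := (mem_normalizer_iff.mp hgi z).mp hz
      rwa [inv_inv] at this
    rw [hBc, mem_cj] at hxB hyB ⊢
    rw [show g⁻¹ * (x * y) * g = (g⁻¹ * x * g) * (g⁻¹ * y * g) by group]
    exact D.mul_mem_core hnL (cl x hx) (cl y hy) hxB hyB
  have hw₂B : w₂ ∉ Bc := hw₂ ▸ hnB h₀ hh₀ hh₀L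
  have hw₃B : w₃ ∉ Bc := hw₃ ▸ hnB _ hl₀H hl₀L
  have hu₀ : w₂ * w₃ ∈ Ac ⊓ Bc :=
    ⟨(coreIn H L).mul_mem hw₂A hw₃A, hmulB _ (D.core_le hw₂A) hw₂B _ (D.core_le hw₃A) hw₃B⟩
  have hconjc : ∀ k ∈ H, k * c * k⁻¹ = c := fun k hk => by
    rw [mem_centralizer_iff.mp hcH k hk, mul_inv_cancel_right]
  have hsq2 : ∀ k : G, (k * w * k⁻¹) * (k * w * k⁻¹) = 1 := fun k => by
    rw [show k * w * k⁻¹ * (k * w * k⁻¹) = k * (w * w) * k⁻¹ by group, hww]; group
  have hu₀sq : w₂ * w₃ * (w₂ * w₃) = c := by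
    have hk : h₀⁻¹ * l₁ * h₀ ∈ H := H.mul_mem (H.mul_mem (H.inv_mem hh₀) (D.hLH hl₁)) hh₀
    have hkL : h₀⁻¹ * l₁ * h₀ ∉ L := fun h => hl₁A (by
      rw [← D.inf_cj hnL hh₀ hh₀L]; exact ⟨hl₁, mem_cj.mpr h⟩)
    have h1 := hcomm _ hk hkL
    calc w₂ * w₃ * (w₂ * w₃) = w₂ * w₃ * w₂⁻¹ * w₃⁻¹ := by
          rw [inv_eq_of_mul_eq_one_right (hw₂ ▸ hsq2 h₀), inv_eq_of_mul_eq_one_right (hw₃ ▸ hsq2 (l₁ * h₀))]
          group
      _ = h₀ * ⁅w, h₀⁻¹ * l₁ * h₀ * w * (h₀⁻¹ * l₁ * h₀)⁻¹⁆ * h₀⁻¹ := by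
          rw [hw₂, hw₃]; simp only [commutatorElement_def]; group
      _ = c := by rw [h1, hconjc h₀ hh₀]
  have hcS : c ∈ squares (Ac ⊓ Bc) := hu₀sq ▸ sq_mem_squares hu₀
  have hSA : squares Ac = squares (Ac ⊓ Bc) := by
    refine le_antisymm ((closure_le _).mpr ?_) (squares_mono inf_le_left)
    rintro _ ⟨x, hx, rfl⟩
    by_cases hxB : x ∈ Bc
    · exact sq_mem_squares ⟨hx, hxB⟩
    have hy : x * w₂ ∈ Ac ⊓ Bc := ⟨(coreIn H L).mul_mem hx hw₂A, hmulB _ (D.core_le hx) hxB _ (D.core_le hw₂A) hw₂B⟩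
    obtain ⟨y, hyd⟩ : ∃ y, y = x * w₂ := ⟨_, rfl⟩
    rw [← hyd] at hy
    have hw₂2 : w₂ * w₂ = 1 := hw₂ ▸ hsq2 h₀
    have hxy : x = y * w₂ := by rw [hyd, mul_assoc, hw₂2, mul_one]
    have hcy : ⁅y⁻¹, w₂⁆ = 1 ∨ ⁅y⁻¹, w₂⁆ = c := by
      have hy' : h₀⁻¹ * y⁻¹ * h₀ ∈ L := by
        have := (mem_normalizer_iff.mp (D.core_normal (H.inv_mem hh₀)) _).mp ((coreIn H L).inv_mem hy.1)
        rw [inv_inv] at this
        exact D.core_le this
      have e : ⁅y⁻¹, w₂⁆ = h₀ * ⁅h₀⁻¹ * y⁻¹ * h₀, w⁆ * h₀⁻¹ := by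
        rw [hw₂]; simp only [commutatorElement_def]; group
      rcases hcm g D.hg _ hy' w (hW ▸ hwW) with h | h
      · exact Or.inl (by rw [e, h]; group)
      · exact Or.inr (by rw [e, h, ← hc, hconjc h₀ hh₀])
    have e : x * x = (y * y) * ⁅y⁻¹, w₂⁆ := by
      rw [hxy, commutatorElement_def, inv_eq_of_mul_eq_one_right hw₂2]; group
    show x * x ∈ squares (Ac ⊓ Bc)
    rw [e]
    refine mul_mem (sq_mem_squares hy) ?_
    rcases hcy with h | h <;> rw [h]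
    · exact one_mem _
    · exact hcS
  have hgg : cj g Bc = Ac := by
    rw [hBc, cj_cj, D.cj_core hnL (hpair g D.hg D.hgH g D.hg D.hgH)]
  have hfix : cj g (squares Ac) = squares Ac := by
    conv_lhs => rw [hSA]
    rw [cj, map_squares, Subgroup.map_inf _ _ _ (MulAut.conj g).injective, ← cj, ← cj, hgg, ← hBc, inf_comm, ← hSA]
  have h0 := D.eq_bot_of_cj ((squares_le _).trans (D.core_le.trans D.hLH))
    (fun k hk => mem_normalizer_of_conj fun y hy => by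
      have : cj k (squares Ac) = squares Ac := by rw [cj, map_squares, ← cj, D.cj_core hnL hk]
      exact this.le ⟨y, hy, rfl⟩) hfix D.hgH
  exact hc1 (mem_bot.mp (h0 ▸ (hSA ▸ hcS : c ∈ squares Ac)))

/-- The structure of `H` when the central involutions lie in the core. -/
theorem Data.structure_of_le (hZA : Zc ≤ Ac) :
    (∀ a ∈ Ac, a * a = 1) ∧ (omegaCenter L).relIndex Ac = 2 ∧
      (Zc ⊓ centralizer (H : Set G)).relIndex Zc = 2 ∧
      Nat.card ↥(Zc ⊓ centralizer (H : Set G)) ≤ 2 ∧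
      (∃ w ∈ L, w ∉ Ac ∧ w * w = 1) ∧
      ∀ y ∈ Ac, y ∉ Zc → ∀ l ∈ L, l ∉ Ac → y * (l * y * l⁻¹) ∈ Zc ∧
        y * (l * y * l⁻¹) ∉ centralizer (H : Set G) := by
  classical
  obtain ⟨n, hn, hcritA⟩ := D.exists_line_crit hnL hZA
  have hAA : Vv ≤ Ac := D.vee_le_core hnL hZA
  have hcrit : Crit H L n := ⟨(hAA.trans D.core_le).trans (D.cj_L hnL hn).ge,
    (cj_mono (hAA.trans D.core_le)).trans (D.cj_L hnL hn).le, hcritA⟩
  obtain ⟨q, hq, hqA, hk, hidx⟩ := D.crit_props hnL hZA hcrit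
  obtain ⟨z₀, T⟩ := D.exists_transvection hnL hZA hcrit
  obtain ⟨v₁, hv₁, hv₁A⟩ := SetLike.not_le_iff_exists.mp hcritA
  have hv₁Z : v₁ ∉ Zc := fun hz => hv₁A (by
    have := (D.omega_conj hn).ge hz
    exact cj_mono hZA this)
  have hnL' : ∀ z ∈ L, n⁻¹ * z * n ∈ L := fun z hz => by
    have := (mem_normalizer_iff.mp (inv_mem hn) z).mp hz
    rwa [inv_inv] at this
  have hnH : n ∉ H := fun h => hcritA (by rw [D.cj_core hnL h]; exact hAA)
  -- `A ⊓ cj n A` is centralized by `L` and has the same squares as `A`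
  have hmulA : ∀ x ∈ Ac, x ∉ cj n Ac → x * v₁ ∈ Ac ⊓ cj n Ac := by
    intro x hx hxn
    refine ⟨(coreIn H L).mul_mem hx (hAA hv₁), mem_cj.mpr ?_⟩
    rw [mem_cj] at hxn
    rw [show n⁻¹ * (x * v₁) * n = (n⁻¹ * x * n) * (n⁻¹ * v₁ * n) by group]
    exact D.mul_mem_core hnL (hnL' _ (D.core_le hx)) (hnL' _ (D.core_le (hAA hv₁))) hxn
      (fun h => hv₁A (mem_cj.mpr h))
  have hqc : ∀ y ∈ cj n Ac, q * y = y * q := by
    intro y hy
    have h1 := D.vee_comm_core hnL hZA (mem_cj.mp hq) (mem_cj.mp hy)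
    calc q * y = n * ((n⁻¹ * q * n) * (n⁻¹ * y * n)) * n⁻¹ := by group
      _ = n * ((n⁻¹ * y * n) * (n⁻¹ * q * n)) * n⁻¹ := by rw [h1]
      _ = y * q := by group
  have hq2 : q * q = 1 := by
    calc q * q = n * ((n⁻¹ * q * n) * (n⁻¹ * q * n)) * n⁻¹ := by group
      _ = 1 := by rw [D.vee_sq hnL hZA (mem_cj.mp hq)]; group
  have hS1 : squares Ac = squares (Ac ⊓ cj n Ac) := by
    refine le_antisymm ((closure_le _).mpr ?_) (squares_mono inf_le_left)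
    rintro _ ⟨x, hx, rfl⟩
    by_cases hxn : x ∈ cj n Ac
    · exact sq_mem_squares ⟨hx, hxn⟩
    have hc := D.vee_comm_core hnL hZA hv₁ hx
    have : x * x = (x * v₁) * (x * v₁) := by
      calc x * x = x * x * (v₁ * v₁) := by rw [D.vee_sq hnL hZA hv₁, mul_one]
        _ = x * (x * v₁) * v₁ := by group
        _ = x * (v₁ * x) * v₁ := by rw [hc]
        _ = _ := by group
    show x * x ∈ _
    rw [this]
    exact sq_mem_squares (hmulA x hx hxn)
  have hS2 : squares (cj n Ac) = squares (Ac ⊓ cj n Ac) := by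
    refine le_antisymm ((closure_le _).mpr ?_) (squares_mono inf_le_right)
    rintro _ ⟨x, hx, rfl⟩
    by_cases hxA : x ∈ Ac
    · exact sq_mem_squares ⟨hxA, hx⟩
    have hc := hqc x hx
    have hxL : x ∈ L := (D.cj_L hnL hn).le (cj_mono D.core_le hx)
    have hm : x * q ∈ Ac ⊓ cj n Ac :=
      ⟨D.mul_mem_core hnL hxL (hcrit.2.1 hq) hxA hqA, (cj n Ac).mul_mem hx (cj_mono hAA hq)⟩
    have : x * x = (x * q) * (x * q) := by
      calc x * x = x * x * (q * q) := by rw [hq2, mul_one]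
        _ = x * (x * q) * q := by group
        _ = x * (q * x) * q := by rw [hc]
        _ = _ := by group
    show x * x ∈ _
    rw [this]
    exact sq_mem_squares hm
  have hS : squares Ac = ⊥ := by
    refine D.eq_bot_of_cj ((squares_le _).trans (D.core_le.trans D.hLH))
      (fun k hk => mem_normalizer_of_conj fun y hy => ?_) (n := n) ?_ hnH
    · have : cj k (squares Ac) = squares Ac := by rw [cj, map_squares, ← cj, D.cj_core hnL hk]
      exact this.le ⟨y, hy, rfl⟩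
    · rw [cj, map_squares, ← cj, hS2, hS1]
  have hA2 : ∀ a ∈ Ac, a * a = 1 := fun a ha => mem_bot.mp (hS ▸ sq_mem_squares ha)
  have hAcomm : ∀ a ∈ Ac, ∀ b ∈ Ac, a * b = b * a := fun a ha b hb =>
    comm_of_sq (hA2 a ha) (hA2 b hb) (hA2 _ ((coreIn H L).mul_mem ha hb))
  have hEZ : Ac ⊓ cj n Ac ≤ Zc := by
    intro e he
    refine ⟨D.core_le he.1, mem_centralizer_iff.mpr fun l hl => ?_, hA2 e he.1⟩
    by_cases hlA : l ∈ Ac
    · exact hAcomm l hlA e he.1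
    have hm : q * l ∈ Ac := D.mul_mem_core hnL (hcrit.2.1 hq) hl hqA hlA
    calc l * e = q⁻¹ * (q * l * e) := by group
      _ = q⁻¹ * (e * (q * l)) := by rw [hAcomm _ hm e he.1]
      _ = q⁻¹ * (e * q) * l := by group
      _ = q⁻¹ * (q * e) * l := by rw [hqc e he.2]
      _ = e * l := by group
  have hAV : Ac ≤ Vv := by
    intro a ha
    by_cases han : a ∈ cj n Ac
    · exact D.omega_le_vee hnL (hEZ ⟨ha, han⟩)
    rw [show a = a * v₁ * v₁⁻¹ by group]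
    exact mul_mem (D.omega_le_vee hnL (hEZ (hmulA a ha han))) (inv_mem hv₁)
  have h2 : (omegaCenter L).relIndex Ac = 2 := by
    have h1 : (omegaCenter L).relIndex Ac ≤ 2 := relIndex_le_two fun a ha haZ b hb hbZ =>
      hidx a (hAV ha) haZ b (hAV hb) hbZ
    have h0 : (omegaCenter L).relIndex Ac ≠ 0 := index_ne_zero_of_finite
    have h1' : (omegaCenter L).relIndex Ac ≠ 1 := fun e => hv₁Z (relIndex_eq_one.mp e (hAA hv₁))
    omega
  obtain ⟨h, hh, hhL⟩ := SetLike.not_le_iff_exists.mp (fun h : H ≤ L => hnL (h.trans le_normalizer))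
  have hcentral : ∀ y ∈ Zc, h * y * h⁻¹ ∈ Zc → y ∈ Zc ⊓ centralizer (H : Set G) := by
    intro y hy hy'
    refine ⟨hy, mem_centralizer_iff.mpr fun k hk => ?_⟩
    have hle : L ⊔ cj h⁻¹ L ≤ centralizer ({y} : Set G) := by
      refine sup_le (fun l hl => mem_centralizer_singleton_iff.mpr (mem_centralizer_iff.mp hy.2.1 l hl)) ?_
      rintro _ ⟨l, hl, rfl⟩
      rw [mem_centralizer_singleton_iff]
      show h⁻¹ * l * h⁻¹⁻¹ * y = y * (h⁻¹ * l * h⁻¹⁻¹)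
      calc h⁻¹ * l * h⁻¹⁻¹ * y = h⁻¹ * (l * (h * y * h⁻¹)) * h := by group
        _ = h⁻¹ * (h * y * h⁻¹ * l) * h := by rw [mem_centralizer_iff.mp hy'.2.1 l hl]
        _ = _ := by group
    rw [D.sup_cj hnL (H.inv_mem hh) (fun h' => hhL (by simpa using L.inv_mem h'))] at hle
    exact mem_centralizer_singleton_iff.mp (hle hk)
  obtain ⟨Z1, hZ1⟩ : ∃ Z1, Z1 = Zc ⊓ centralizer (H : Set G) := ⟨_, rfl⟩
  rw [← hZ1] at hcentral ⊢
  have hzc : Z1 ≤ Zc := hZ1 ▸ inf_le_left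
  have hfix : ∀ x ∈ H, ∀ y ∈ Z1, x * y * x⁻¹ = y := fun x hx y hy => by
    rw [mem_centralizer_iff.mp (hZ1 ▸ hy : y ∈ Zc ⊓ centralizer (H : Set G)).2 x hx, mul_inv_cancel_right]
  have h3' : Z1.relIndex Zc ≤ 2 := relIndex_le_two fun y₁ hy₁ n₁' y₂ hy₂ n₂' => by
    have i3 := hidx _ ((D.cj_omega_le hh hn).2 ⟨y₁, hy₁, rfl⟩) (fun e => n₁' (hcentral y₁ hy₁ e)) _
      ((D.cj_omega_le hh hn).2 ⟨y₂, hy₂, rfl⟩) (fun e => n₂' (hcentral y₂ hy₂ e))
    refine hcentral _ (mul_mem (inv_mem hy₁) hy₂) ?_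
    simp only [MulEquiv.toMonoidHom_eq_coe, MonoidHom.coe_coe, MulAut.conj_apply] at i3
    convert i3 using 1
    group
  have h3 : Z1.relIndex Zc = 2 := by
    have h0 : Z1.relIndex Zc ≠ 0 := index_ne_zero_of_finite
    have h1' : Z1.relIndex Zc ≠ 1 := fun e => D.omega_not_normal hnL (by
      intro x hx
      refine mem_normalizer_of_conj fun y hy => ?_
      rw [hfix x hx y (relIndex_eq_one.mp e hy)]
      exact hy)
    omega
  have h4 : Nat.card Z1 ≤ 2 := by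
    have hdis : Z1 ⊓ cj n Z1 = ⊥ := by
      obtain ⟨k, hk, hkH⟩ : ∃ k ∈ cj n H, k ∉ H := by
        by_contra! hsub
        refine hnH (D.normalizer_eq_self ▸ mem_normalizer_of_conj fun y hy => hsub _ ⟨y, hy, rfl⟩)
      refine D.eq_bot ((inf_le_left.trans hzc).trans fun y hy => D.hLH hy.1) ?_ (n := k) ?_ hkH
      · intro x hx
        refine mem_normalizer_of_conj fun y hy => ?_
        rw [hfix x hx y hy.1]; exact hy
      · refine mem_normalizer_of_conj fun y hy => ?_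
        have e1 := hfix _ (mem_cj.mp hk) _ (mem_cj.mp hy.2)
        rw [show k * y * k⁻¹ = n * (n⁻¹ * k * n * (n⁻¹ * y * n) * (n⁻¹ * k * n)⁻¹) * n⁻¹ by group, e1,
          show n * (n⁻¹ * y * n) * n⁻¹ = y by group]
        exact hy
    have e2 : Z1.relIndex (cj n Z1) ≤ Z1.relIndex Zc := Nat.le_of_dvd
      (Nat.pos_of_ne_zero index_ne_zero_of_finite)
      (AltSub.relIndex_dvd_relIndex ((cj_mono hzc).trans (D.omega_conj hn).le)
        (fun y hy => mem_normalizer_of_conj fun w hw => by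
          rw [← mem_centralizer_iff.mp hy.2.1 w (D.core_le (hZA (hzc hw))), mul_inv_cancel_right]
          exact hw))
    rw [← inf_relIndex_right, hdis, relIndex_bot_left,
      card_map_of_injective (f := (MulAut.conj n).toMonoidHom) (MulAut.conj n).injective] at e2
    exact e2.trans h3'
  refine ⟨hA2, h2, h3, h4, ⟨q, hcrit.2.1 hq, hqA, hq2⟩, ?_⟩
  intro y hy hyZ l hl hlA
  have e : y * (l * y * l⁻¹) = z₀ := by
    rw [← T.comm_eq y (hAV hy) hyZ l hl hlA, commutatorElement_def, inv_eq_of_mul_eq_one_right (hA2 y hy)]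
    group
  rw [e]
  exact ⟨T.mem, T.not_central⟩

end CfsgLib.Recognition.SubdegThree
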