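import Cfsg.Agent.Lib.Recognition.SubdegThree.Basic

/-!
# Subdegree three: the central involutions of the arc stabilizer
-/

set_option autoImplicit false

namespace CfsgLib.Recognition.SubdegThree

open Subgroup CfsgLib.Maximal.TW
open scoped commutatorElement

variable {G : Type*} [Group G] {H L : Subgroup G} {g : G}

local notation "Ac" => coreIn H L
local notation "Zc" => omegaCenter L

/-- The normal closure in `H` of the central involutions of `L`. -/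
def vee (H L : Subgroup G) : Subgroup G := ⨆ h : H, cj (h : G) (omegaCenter L)

/-- `u` moves to a vertex whose elementary subgroup sees ours nontrivially. -/
def Crit (H L : Subgroup G) (u : G) : Prop :=
  vee H L ≤ cj u L ∧ cj u (vee H L) ≤ L ∧ ¬ vee H L ≤ cj u (coreIn H L)

lemma cj_congr [Finite G] {X : Subgroup G} {u h : G} (hn : h ∈ normalizer (X : Set G)) :
    cj (u * h) X = cj u X := by
  rw [← cj_cj, show cj h X = X from AltSub.map_conj_eq hn]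

lemma comm_conj {y h : G} (hy : y ∈ centralizer ({h} : Set G)) : h * y * h⁻¹ = y := by
  rw [mem_centralizer_singleton_iff] at hy
  rw [← hy]; group

lemma relIndex_le_two [Finite G] {X Y : Subgroup G}
    (h : ∀ a ∈ Y, a ∉ X → ∀ b ∈ Y, b ∉ X → a⁻¹ * b ∈ X) : X.relIndex Y ≤ 2 := by
  classical
  show (X.subgroupOf Y).index ≤ 2
  letI := Fintype.ofFinite (Y ⧸ X.subgroupOf Y)
  rw [index_eq_card, Nat.card_eq_fintype_card]
  by_contra! hc
  obtain ⟨a, b, c, hab, hac, hbc⟩ := Fintype.two_lt_card_iff.mp hc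
  have key : ∀ p q : Y ⧸ X.subgroupOf Y, p ≠ ((1 : Y) : Y ⧸ X.subgroupOf Y) →
      q ≠ ((1 : Y) : Y ⧸ X.subgroupOf Y) → p = q := by
    intro p q
    induction p using QuotientGroup.induction_on with | H p => ?_
    induction q using QuotientGroup.induction_on with | H q => ?_
    intro hp hq
    rw [QuotientGroup.eq, mem_subgroupOf]
    refine h p p.2 (fun hm => hp ?_) q q.2 (fun hm => hq ?_) <;>
      rw [QuotientGroup.eq, mem_subgroupOf] <;> simpa using hm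
  by_cases ha : a = ((1 : Y) : Y ⧸ X.subgroupOf Y)
  · exact hbc (key b c (fun e => hab (ha.trans e.symm)) (fun e => hac (ha.trans e.symm)))
  by_cases hb : b = ((1 : Y) : Y ⧸ X.subgroupOf Y)
  · exact hac (key a c ha (fun e => hbc (hb.trans e.symm)))
  exact hab (key a b ha hb)

lemma eq_one_or_eq {z : G} {Z' : Subgroup G} [Finite G] (h2 : Nat.card Z' ≤ 2) (hz : z ∈ Z') (hz1 : z ≠ 1)
    {y : G} (hy : y ∈ Z') : y = 1 ∨ y = z := by
  classical
  by_contra! hc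
  have : Fintype Z' := Fintype.ofFinite _
  rw [Nat.card_eq_fintype_card] at h2
  have : 2 < Fintype.card Z' :=
    Fintype.two_lt_card_iff.mpr ⟨1, ⟨z, hz⟩, ⟨y, hy⟩, fun e => hz1 (congrArg Subtype.val e).symm,
      fun e => hc.1 (congrArg Subtype.val e).symm, fun e => hc.2 (congrArg Subtype.val e).symm⟩
  omega

variable [Finite G] (D : Data H L g) (hnL : ¬ H ≤ normalizer (L : Set G))
include D

lemma Data.omega_conj {n : G} (hn : n ∈ normalizer (L : Set G)) : cj n Zc = Zc := by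
  refine AltSub.map_conj_eq (mem_normalizer_of_conj fun z hz => ?_)
  obtain ⟨h1, h2, h3⟩ := hz
  refine ⟨(mem_normalizer_iff.mp hn z).mp h1, ?_, ?_⟩
  · rw [mem_centralizer_iff]
    intro y hy
    have := mem_centralizer_iff.mp h2 (n⁻¹ * y * n⁻¹⁻¹) ((mem_normalizer_iff.mp (inv_mem hn) y).mp hy)
    calc y * (n * z * n⁻¹) = n * (n⁻¹ * y * n⁻¹⁻¹ * z) * n⁻¹ := by group
      _ = n * (z * (n⁻¹ * y * n⁻¹⁻¹)) * n⁻¹ := by rw [this]
      _ = n * z * n⁻¹ * y := by group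
  · rw [show n * z * n⁻¹ * (n * z * n⁻¹) = n * (z * z) * n⁻¹ by group, h3]; group

include hnL

lemma Data.omega_ne_bot : Zc ≠ ⊥ := by
  have hL : Nontrivial L := by
    rw [nontrivial_iff_ne_bot]
    intro h
    exact hnL fun x _ => mem_normalizer_of_conj fun y hy => by
      rw [h, mem_bot] at hy
      simp [hy]
  have : Fact (Nat.Prime 2) := ⟨Nat.prime_two⟩
  have : Nontrivial (center L) := D.h2.center_nontrivial
  obtain ⟨z, hz⟩ := exists_ne (1 : center L)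
  obtain ⟨k, hk⟩ := D.h2 (z : L)
  have hz' : (z : L) ≠ 1 := fun e => hz (Subtype.ext e)
  have hord : 2 ∣ orderOf (z : L) := by
    obtain ⟨j, -, hj⟩ := (Nat.dvd_prime_pow Nat.prime_two).mp (orderOf_dvd_of_pow_eq_one hk)
    rw [hj]
    refine dvd_pow_self 2 fun h0 => hz' ?_
    rw [h0, pow_zero] at hj
    exact orderOf_eq_one_iff.mp hj
  have : (z : L) ^ (orderOf (z : L) / 2) ≠ 1 :=
    pow_ne_one_of_lt_orderOf (Nat.div_pos (Nat.le_of_dvd (orderOf_pos _) hord) (by norm_num)).ne'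
      (Nat.div_lt_self (orderOf_pos _) (by norm_num))
  intro hbot
  refine this (Subtype.ext (mem_bot.mp (hbot ▸ ?_)))
  refine ⟨SetLike.coe_mem _, ?_, ?_⟩
  · rw [mem_centralizer_iff]
    intro y hy
    exact congrArg Subtype.val (mem_center_iff.mp (Subgroup.pow_mem _ z.2 _) ⟨y, hy⟩)
  · rw [← Subgroup.coe_mul, ← pow_add, ← two_mul, Nat.mul_div_cancel' hord, pow_orderOf_eq_one]
    rfl

lemma Data.omega_not_normal : ¬ H ≤ normalizer (Zc : Set G) := fun h =>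
  D.omega_ne_bot hnL (D.eq_bot_of_cj (fun _ hz => D.hLH hz.1) h (D.omega_conj D.hg) D.hgH)

lemma Data.core_ne_of_omega (hZA : Zc ≤ Ac) : Ac ≠ ⊥ := fun h =>
  D.omega_ne_bot hnL (le_bot_iff.mp (h ▸ hZA))

lemma Data.vee_normal : H ≤ normalizer (vee H L : Set G) := by
  intro k hk
  refine mem_normalizer_of_conj fun y hy => ?_
  have hle : cj k (vee H L) ≤ vee H L := by
    rw [vee, cj, Subgroup.map_iSup]
    exact iSup_le fun h => le_trans (cj_cj k h Zc).le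
      (le_iSup (fun h : H => cj (h : G) Zc) ⟨k * h, H.mul_mem hk h.2⟩)
  exact hle ⟨y, hy, rfl⟩

lemma Data.omega_le_vee : Zc ≤ vee H L := by
  refine le_trans ?_ (le_iSup (fun h : H => cj (h : G) Zc) 1)
  rw [OneMemClass.coe_one, cj_one]

section InCore

variable (hZA : omegaCenter L ≤ coreIn H L)
include hZA

lemma Data.vee_le : vee H L ≤ omegaCenter Ac := by
  refine iSup_le fun h => ?_
  rintro _ ⟨z, hz, rfl⟩
  have hn := D.core_normal h.2
  refine ⟨(mem_normalizer_iff.mp hn z).mp (hZA hz), ?_, ?_⟩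
  · rw [mem_centralizer_iff]
    intro y hy
    have hy' : (h : G)⁻¹ * y * (h : G)⁻¹⁻¹ ∈ Ac :=
      (mem_normalizer_iff.mp (D.core_normal (H.inv_mem h.2)) y).mp hy
    have := mem_centralizer_iff.mp hz.2.1 _ (D.core_le hy')
    show y * ((h : G) * z * (h : G)⁻¹) = (h : G) * z * (h : G)⁻¹ * y
    calc y * ((h : G) * z * (h : G)⁻¹) = h * ((h : G)⁻¹ * y * (h : G)⁻¹⁻¹ * z) * (h : G)⁻¹ := by group
      _ = h * (z * ((h : G)⁻¹ * y * (h : G)⁻¹⁻¹)) * (h : G)⁻¹ := by rw [this]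
      _ = (h : G) * z * (h : G)⁻¹ * y := by group
  · show (h : G) * z * (h : G)⁻¹ * ((h : G) * z * (h : G)⁻¹) = 1
    rw [show (h : G) * z * (h : G)⁻¹ * ((h : G) * z * (h : G)⁻¹) = h * (z * z) * (h : G)⁻¹ by group, hz.2.2]
    group

lemma Data.vee_le_core : vee H L ≤ Ac := fun _ hv => (D.vee_le hnL hZA hv).1

lemma Data.vee_comm_core {v a : G} (hv : v ∈ vee H L) (ha : a ∈ Ac) : v * a = a * v :=
  (mem_centralizer_iff.mp (D.vee_le hnL hZA hv).2.1 a ha).symm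

lemma Data.vee_sq {v : G} (hv : v ∈ vee H L) : v * v = 1 := (D.vee_le hnL hZA hv).2.2

lemma Data.mem_core_of_centralizes {h : G} (hh : h ∈ H)
    (hc : ∀ v ∈ vee H L, h * v = v * h) : h ∈ Ac := by
  have hC : H ⊓ centralizer (vee H L : Set G) ≤ L := by
    intro c hc
    by_contra hcL
    refine D.omega_not_normal hnL ?_
    rw [← D.eq_top_of_mem (T := H ⊓ normalizer (Zc : Set G)) (le_inf D.hLH fun l hl => ?_) inf_le_left
      (y := c) ⟨hc.1, mem_normalizer_of_conj fun z hz => ?_⟩ hcL]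
    · exact inf_le_right
    · refine mem_normalizer_of_conj fun z hz => ?_
      have := mem_centralizer_iff.mp hz.2.1 l hl
      rw [this, mul_inv_cancel_right]
      exact hz
    · have := mem_centralizer_iff.mp hc.2 z (D.omega_le_vee hnL hz)
      rw [← this, mul_inv_cancel_right]
      exact hz
  refine D.le_core hC ((le_inf le_normalizer (le_normalizer_centralizer (D.vee_normal hnL))).trans
    inf_normalizer_le_normalizer_inf) ⟨hh, mem_centralizer_iff.mpr fun v hv => (hc v hv).symm⟩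

/-- The consequences of a critical element. -/
theorem Data.crit_props {u : G} (hu : Crit H L u) :
    ∃ q ∈ cj u (vee H L), q ∉ Ac ∧
      (∀ v ∈ vee H L, v ∈ cj u Ac → v ∈ Zc) ∧
      (∀ v₁ ∈ vee H L, v₁ ∉ Zc → ∀ v₂ ∈ vee H L, v₂ ∉ Zc → v₁⁻¹ * v₂ ∈ Zc) := by
  obtain ⟨h1, h2, h3⟩ := hu
  obtain ⟨q, hq, hqA⟩ : ∃ q ∈ cj u (vee H L), q ∉ Ac := by
    by_contra! hc
    refine h3 fun v hv => mem_cj.mpr (D.mem_core_of_centralizes hnL hZA (D.hLH (mem_cj.mp (h1 hv))) ?_)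
    intro v' hv'
    have hq : u * v' * u⁻¹ ∈ Ac := hc _ ⟨v', hv', rfl⟩
    have := D.vee_comm_core hnL hZA hv hq
    calc u⁻¹ * v * u * v' = u⁻¹ * (v * (u * v' * u⁻¹)) * u := by group
      _ = u⁻¹ * (u * v' * u⁻¹ * v) * u := by rw [this]
      _ = v' * (u⁻¹ * v * u) := by group
  have key : ∀ v ∈ vee H L, v ∈ cj u Ac → v ∈ Zc := by
    intro v hv hvA
    refine ⟨D.core_le (D.vee_le_core hnL hZA hv), mem_centralizer_iff.mpr fun l hl => ?_, D.vee_sq hnL hZA hv⟩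
    by_cases hlA : l ∈ Ac
    · exact (D.vee_comm_core hnL hZA hv hlA).symm
    obtain ⟨q', hq', rfl⟩ := hq
    have hc : v * (u * q' * u⁻¹) = u * q' * u⁻¹ * v := by
      have := D.vee_comm_core hnL hZA hq' (mem_cj.mp hvA)
      calc v * (u * q' * u⁻¹) = u * (u⁻¹ * v * u * q') * u⁻¹ := by group
        _ = u * (q' * (u⁻¹ * v * u)) * u⁻¹ := by rw [this]
        _ = u * q' * u⁻¹ * v := by group
    have hm : u * q' * u⁻¹ * l ∈ Ac := D.mul_mem_core hnL (h2 ⟨q', hq', rfl⟩) hl hqA hlA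
    have hc2 := D.vee_comm_core hnL hZA hv hm
    refine mul_left_cancel (a := u * q' * u⁻¹) ?_
    calc u * q' * u⁻¹ * (l * v) = u * q' * u⁻¹ * l * v := by group
      _ = v * (u * q' * u⁻¹ * l) := hc2.symm
      _ = v * (u * q' * u⁻¹) * l := by group
      _ = u * q' * u⁻¹ * v * l := by rw [hc]
      _ = u * q' * u⁻¹ * (v * l) := by group
  refine ⟨q, hq, hqA, key, ?_⟩
  intro v₁ hv₁ hz₁ v₂ hv₂ hz₂
  refine key _ ((vee H L).mul_mem ((vee H L).inv_mem hv₁) hv₂) ?_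
  rw [mem_cj, inv_eq_of_mul_eq_one_right (D.vee_sq hnL hZA hv₁)]
  rw [show u⁻¹ * (v₁ * v₂) * u = (u⁻¹ * v₁ * u) * (u⁻¹ * v₂ * u) by group]
  refine D.mul_mem_core hnL (mem_cj.mp (h1 hv₁)) (mem_cj.mp (h1 hv₂)) (fun h => hz₁ ?_) (fun h => hz₂ ?_)
  · exact key v₁ hv₁ (mem_cj.mpr h)
  · exact key v₂ hv₂ (mem_cj.mpr h)

/-- The facts shared by all critical elements. -/
structure Transvection (z₀ : G) : Prop where
  ne_one : z₀ ≠ 1
  mem : z₀ ∈ omegaCenter L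
  comm_eq : ∀ v ∈ vee H L, v ∉ omegaCenter L → ∀ l ∈ L, l ∉ coreIn H L → ⁅v, l⁆ = z₀
  not_central : z₀ ∉ centralizer (H : Set G)
  fixed : ∀ u, Crit H L u → u * z₀ * u⁻¹ = z₀

lemma Data.exists_transvection {u : G} (hu : Crit H L u) : ∃ z₀, Transvection (H := H) (L := L) z₀ := by
  obtain ⟨q, hq, hqA, hk, hidx⟩ := D.crit_props hnL hZA hu
  obtain ⟨v₀, hv₀, hv₀A⟩ := SetLike.not_le_iff_exists.mp hu.2.2
  have hqL : q ∈ L := hu.2.1 hq
  have hzc : ∀ z ∈ Zc, ∀ l ∈ L, z * l = l * z := fun z hz l hl => (mem_centralizer_iff.mp hz.2.1 l hl).symm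
  have hnotcomm : ∀ v ∈ vee H L, v ∉ Zc → ∀ l ∈ L, l ∉ Ac → v * l ≠ l * v := by
    intro v hv hvZ l hl hlA he
    refine hvZ ⟨D.core_le (D.vee_le_core hnL hZA hv), mem_centralizer_iff.mpr fun l' hl' => ?_, D.vee_sq hnL hZA hv⟩
    by_cases hl'A : l' ∈ Ac
    · exact (D.vee_comm_core hnL hZA hv hl'A).symm
    have hc2 := D.vee_comm_core hnL hZA hv (D.mul_mem_core hnL hl hl' hlA hl'A)
    refine mul_left_cancel (a := l) ?_
    calc l * (l' * v) = l * l' * v := by group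
      _ = v * (l * l') := hc2.symm
      _ = v * l * l' := by group
      _ = l * v * l' := by rw [he]
      _ = l * (v * l') := by group
  have hv₀Z : v₀ ∉ Zc := by
    intro hz
    refine hv₀A (mem_cj.mpr (D.mem_core_of_centralizes hnL hZA (D.hLH (mem_cj.mp (hu.1 hv₀))) ?_))
    intro v' hv'
    have := hzc v₀ hz (u * v' * u⁻¹) (hu.2.1 ⟨v', hv', rfl⟩)
    calc u⁻¹ * v₀ * u * v' = u⁻¹ * (v₀ * (u * v' * u⁻¹)) * u := by group
      _ = u⁻¹ * (u * v' * u⁻¹ * v₀) * u := by rw [this]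
      _ = v' * (u⁻¹ * v₀ * u) := by group
  have hconst : ∀ v ∈ vee H L, v ∉ Zc → ∀ l ∈ L, l ∉ Ac → ⁅v, l⁆ = ⁅v₀, q⁆ := by
    intro v hv hvZ l hl hlA
    have e1 : ⁅v, l⁆ = ⁅v₀, l⁆ := by
      have hz := hidx v₀ hv₀ hv₀Z v hv hvZ
      have hc := hzc _ hz l hl
      rw [commutatorElement_def, commutatorElement_def]
      calc v * l * v⁻¹ * l⁻¹ = v₀ * ((v₀⁻¹ * v) * l) * v⁻¹ * l⁻¹ := by group
        _ = v₀ * (l * (v₀⁻¹ * v)) * v⁻¹ * l⁻¹ := by rw [hc]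
        _ = v₀ * l * v₀⁻¹ * l⁻¹ := by group
    have e2 : ⁅v₀, l⁆ = ⁅v₀, q⁆ := by
      have ha := D.mul_mem_core hnL hqL hl hqA hlA
      have hc := D.vee_comm_core hnL hZA hv₀ ha
      have hq2 := D.vee_comm_core hnL hZA hv₀ (D.mul_mem_core hnL hqL hqL hqA hqA)
      rw [commutatorElement_def, commutatorElement_def]
      calc v₀ * l * v₀⁻¹ * l⁻¹ = v₀ * q⁻¹ * ((q * l) * v₀⁻¹) * l⁻¹ := by group
        _ = v₀ * q⁻¹ * (v₀⁻¹ * (q * l)) * l⁻¹ := by
          rw [((Commute.inv_left hc).eq).symm]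
        _ = v₀ * q * ((q * q)⁻¹ * v₀⁻¹) * q := by group
        _ = v₀ * q * (v₀⁻¹ * (q * q)⁻¹) * q := by
          rw [((Commute.inv_inv hq2).eq).symm]
        _ = v₀ * q * v₀⁻¹ * q⁻¹ := by group
    exact e1.trans e2
  have hmemV : ∀ v ∈ vee H L, ∀ l ∈ L, ⁅v, l⁆ ∈ vee H L := fun v hv l hl => by
    rw [commutatorElement_def, show v * l * v⁻¹ * l⁻¹ = v * (l * v⁻¹ * l⁻¹) by group]
    exact (vee H L).mul_mem hv
      ((mem_normalizer_iff.mp (D.vee_normal hnL (D.hLH hl)) _).mp ((vee H L).inv_mem hv))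
  have hz₀Z : ⁅v₀, q⁆ ∈ Zc := by
    have hV := hmemV v₀ hv₀ q hqL
    refine ⟨D.core_le (D.vee_le_core hnL hZA hV), mem_centralizer_iff.mpr fun l hl => ?_, D.vee_sq hnL hZA hV⟩
    by_cases hlA : l ∈ Ac
    · exact (D.vee_comm_core hnL hZA hV hlA).symm
    · have hv' : l * v₀ * l⁻¹ ∈ vee H L := (mem_normalizer_iff.mp (D.vee_normal hnL (D.hLH hl)) _).mp hv₀
      have hv'Z : l * v₀ * l⁻¹ ∉ Zc := fun hz => hnotcomm v₀ hv₀ hv₀Z l hl hlA (by
        have e := hzc _ hz l hl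
        rw [show l * v₀ * l⁻¹ * l = l * v₀ by group, ← mul_assoc l (l * v₀) l⁻¹] at e
        have e' : v₀ = l * v₀ * l⁻¹ := mul_left_cancel (a := l) (e.trans (by group))
        calc v₀ * l = l * v₀ * l⁻¹ * l := by rw [← e']
          _ = l * v₀ := by group)
      have h1 := hconst _ hv₀ hv₀Z l hl hlA
      have h2 := hconst _ hv' hv'Z l hl hlA
      rw [commutatorElement_def] at h1 h2
      calc l * ⁅v₀, q⁆ = l * (v₀ * l * v₀⁻¹ * l⁻¹) := by rw [h1]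
        _ = (l * v₀ * l⁻¹) * l * (l * v₀ * l⁻¹)⁻¹ * l⁻¹ * l := by group
        _ = ⁅v₀, q⁆ * l := by rw [h2]
  have hne : ⁅v₀, q⁆ ≠ 1 := fun h =>
    hnotcomm v₀ hv₀ hv₀Z q hqL hqA (commutatorElement_eq_one_iff_mul_comm.mp h)
  refine ⟨⁅v₀, q⁆, hne, hz₀Z, hconst, ?_, ?_⟩
  · intro hcent
    have hzH : ∀ h ∈ H, ∀ i : ℤ, h * ⁅v₀, q⁆ ^ i * h⁻¹ = ⁅v₀, q⁆ ^ i := fun h hh i => by
      have hc : Commute h ⁅v₀, q⁆ := mem_centralizer_iff.mp hcent h hh
      rw [(hc.zpow_right i).eq, mul_inv_cancel_right]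
    let T : Subgroup G :=
      { carrier := {k | k ∈ H ∧ ∀ v ∈ vee H L, ∃ i : ℤ, k * v * k⁻¹ = ⁅v₀, q⁆ ^ i * v}
        one_mem' := ⟨one_mem _, fun v _ => ⟨0, by simp⟩⟩
        mul_mem' := by
          rintro a b ⟨ha, ha'⟩ ⟨hb, hb'⟩
          refine ⟨H.mul_mem ha hb, fun v hv => ?_⟩
          obtain ⟨i, hi⟩ := hb' v hv
          obtain ⟨j, hj⟩ := ha' v hv
          refine ⟨i + j, ?_⟩
          calc a * b * v * (a * b)⁻¹ = a * (b * v * b⁻¹) * a⁻¹ := by group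
            _ = (a * ⁅v₀, q⁆ ^ i * a⁻¹) * (a * v * a⁻¹) := by rw [hi]; group
            _ = ⁅v₀, q⁆ ^ (i + j) * v := by rw [hzH a ha i, hj, zpow_add]; group
        inv_mem' := by
          rintro a ⟨ha, ha'⟩
          refine ⟨H.inv_mem ha, fun v hv => ?_⟩
          obtain ⟨i, hi⟩ := ha' _ ((mem_normalizer_iff.mp (D.vee_normal hnL (H.inv_mem ha)) v).mp hv)
          refine ⟨-i, ?_⟩
          have e : a * (a⁻¹ * v * a⁻¹⁻¹) * a⁻¹ = v := by group
          rw [e] at hi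
          calc a⁻¹ * v * a⁻¹⁻¹ = ⁅v₀, q⁆ ^ (-i) * (⁅v₀, q⁆ ^ i * (a⁻¹ * v * a⁻¹⁻¹)) := by group
            _ = ⁅v₀, q⁆ ^ (-i) * v := by rw [← hi] }
    have hLT : L ≤ T := by
      intro l hl
      refine ⟨D.hLH hl, fun v hv => ?_⟩
      by_cases hvZ : v ∈ Zc
      · exact ⟨0, by rw [← hzc v hvZ l hl]; simp⟩
      by_cases hlA : l ∈ Ac
      · exact ⟨0, by rw [← D.vee_comm_core hnL hZA hv hlA]; simp⟩
      refine ⟨-1, ?_⟩
      rw [← hconst v hv hvZ l hl hlA, commutatorElement_def]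
      group
    have hT : T = H := by
      obtain ⟨h, hh, hhL⟩ := SetLike.not_le_iff_exists.mp (fun h : H ≤ L => hnL (h.trans le_normalizer))
      refine le_antisymm (fun x hx => hx.1) ?_
      rw [← D.sup_cj hnL hh hhL]
      refine sup_le hLT ?_
      rintro _ ⟨l, hl, rfl⟩
      obtain ⟨-, hl'⟩ := hLT hl
      refine ⟨H.mul_mem (H.mul_mem hh (D.hLH hl)) (H.inv_mem hh), fun v hv => ?_⟩
      obtain ⟨i, hi⟩ := hl' _ ((mem_normalizer_iff.mp (D.vee_normal hnL (H.inv_mem hh)) v).mp hv)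
      refine ⟨i, ?_⟩
      show h * l * h⁻¹ * v * (h * l * h⁻¹)⁻¹ = _
      calc h * l * h⁻¹ * v * (h * l * h⁻¹)⁻¹ = h * (l * (h⁻¹ * v * h⁻¹⁻¹) * l⁻¹) * h⁻¹ := by group
        _ = h * ⁅v₀, q⁆ ^ i * h⁻¹ * v := by rw [hi]; group
        _ = ⁅v₀, q⁆ ^ i * v := by rw [hzH h hh i]
    have hz2 : ∀ i : ℤ, ⁅v₀, q⁆ ^ i * ⁅v₀, q⁆ ^ i = 1 := fun i => by
      rw [← zpow_add, ← two_mul, zpow_mul, zpow_two, hz₀Z.2.2, one_zpow]
    have hsq : ∀ h ∈ H, h * h ∈ Ac := by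
      intro h hh
      refine D.mem_core_of_centralizes hnL hZA (H.mul_mem hh hh) fun v hv => ?_
      obtain ⟨-, hh'⟩ := hT.ge hh
      obtain ⟨i, hi⟩ := hh' v hv
      have : h * h * v * (h * h)⁻¹ = v := by
        calc h * h * v * (h * h)⁻¹ = h * (h * v * h⁻¹) * h⁻¹ := by group
          _ = h * (⁅v₀, q⁆ ^ i * v) * h⁻¹ := by rw [hi]
          _ = (h * ⁅v₀, q⁆ ^ i * h⁻¹) * (h * v * h⁻¹) := by group
          _ = v := by rw [hzH h hh i, hi, ← mul_assoc, hz2, one_mul]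
      calc h * h * v = h * h * v * (h * h)⁻¹ * (h * h) := by group
        _ = v * (h * h) := by rw [this]
    refine D.not_pgroup fun h => ?_
    obtain ⟨k, hk⟩ := D.h2 ⟨(h : G) * h, D.core_le (hsq h h.2)⟩
    refine ⟨k + 1, Subtype.ext ?_⟩
    have e : ((h : G) * h) ^ (2 ^ k) = 1 := congrArg Subtype.val hk
    rw [SubgroupClass.coe_pow, pow_succ', pow_mul, sq]
    exact e
  · intro u' hu'
    obtain ⟨q', hq', hq'A, hk', -⟩ := D.crit_props hnL hZA hu'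
    obtain ⟨w₀, hw₀, hw₀A⟩ := SetLike.not_le_iff_exists.mp hu'.2.2
    obtain ⟨p, hp, rfl⟩ := hq'
    have hqp : u' * p * u'⁻¹ ∈ L := hu'.2.1 ⟨p, hp, rfl⟩
    have hw₀Z : w₀ ∉ Zc := fun hz => by
      refine hw₀A (mem_cj.mpr (D.mem_core_of_centralizes hnL hZA (D.hLH (mem_cj.mp (hu'.1 hw₀))) ?_))
      intro v' hv'
      have := hzc w₀ hz (u' * v' * u'⁻¹) (hu'.2.1 ⟨v', hv', rfl⟩)
      calc u'⁻¹ * w₀ * u' * v' = u'⁻¹ * (w₀ * (u' * v' * u'⁻¹)) * u' := by group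
        _ = u'⁻¹ * (u' * v' * u'⁻¹ * w₀) * u' := by rw [this]
        _ = v' * (u'⁻¹ * w₀ * u') := by group
    have hpZ : p ∉ Zc := fun hz => by
      have := hzc p hz _ (mem_cj.mp (hu'.1 hw₀))
      refine hnotcomm w₀ hw₀ hw₀Z _ hqp hq'A ?_
      show w₀ * (u' * p * u'⁻¹) = u' * p * u'⁻¹ * w₀
      calc w₀ * (u' * p * u'⁻¹) = u' * ((u'⁻¹ * w₀ * u') * p) * u'⁻¹ := by group
        _ = u' * (p * (u'⁻¹ * w₀ * u')) * u'⁻¹ := by rw [this]
        _ = u' * p * u'⁻¹ * w₀ := by group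
    have h1 := hconst w₀ hw₀ hw₀Z _ hqp hq'A
    have h2 := hconst p hp hpZ _ (mem_cj.mp (hu'.1 hw₀)) (fun h => hw₀A (mem_cj.mpr h))
    have hinv : (⁅v₀, q⁆)⁻¹ = ⁅v₀, q⁆ := inv_eq_of_mul_eq_one_right hz₀Z.2.2
    calc u' * ⁅v₀, q⁆ * u'⁻¹ = u' * ⁅p, u'⁻¹ * w₀ * u'⁆ * u'⁻¹ := by rw [h2]
      _ = (⁅w₀, u' * p * u'⁻¹⁆)⁻¹ := by simp only [commutatorElement_def]; group
      _ = ⁅v₀, q⁆ := by rw [h1, hinv]

end InCore

end CfsgLib.Recognition.SubdegThree
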