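import Mathlib

/-!
# Recognizing the small groups `S3`, `D12`, `S4` and `S4 × C2` as split extensions
-/

set_option autoImplicit false

namespace CfsgLib.Recognition.SubdegThree

open Subgroup DihedralGroup

variable {Γ : Type*} [Group Γ]

/-- The homomorphism from a dihedral group given by a rotation and an inverting involution. -/
def dihHom {n : ℕ} [NeZero n] (x w : Γ) (hx : x ^ n = 1) (hw : w * w = 1) (hinv : w * x * w = x⁻¹) :
    DihedralGroup n →* Γ :=
  MonoidHom.mk' (fun d => match d with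
    | r i => x ^ i.val
    | sr i => w * x ^ i.val) (by
    have hadd : ∀ i j : ZMod n, x ^ (i + j).val = x ^ i.val * x ^ j.val := fun i j => by
      rw [ZMod.val_add, ← pow_eq_pow_mod (i.val + j.val) hx, pow_add]
    have hwi : w⁻¹ = w := inv_eq_of_mul_eq_one_right hw
    have hconj : ∀ k : ℕ, w * x ^ k * w = (x ^ k)⁻¹ := fun k => by
      have h : (w * x * w⁻¹) ^ k = w * x ^ k * w⁻¹ := conj_pow
      rw [hwi, hinv, inv_pow] at h
      exact h.symm
    have hswap : ∀ k : ℕ, x ^ k * w = w * (x ^ k)⁻¹ := fun k => by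
      calc x ^ k * w = (w * w) * x ^ k * w := by rw [hw, one_mul]
        _ = w * (w * x ^ k * w) := by group
        _ = w * (x ^ k)⁻¹ := by rw [hconj]
    have hsub : ∀ i j : ZMod n, x ^ (j - i).val = (x ^ i.val)⁻¹ * x ^ j.val := fun i j => by
      rw [eq_inv_mul_iff_mul_eq, ← hadd, add_sub_cancel]
    rintro (i | i) (j | j)
    · exact hadd i j
    · show w * x ^ (j - i).val = x ^ i.val * (w * x ^ j.val)
      rw [hsub, ← mul_assoc (x ^ i.val) w, hswap, mul_assoc]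
    · show w * x ^ (i + j).val = w * x ^ i.val * x ^ j.val
      rw [hadd, mul_assoc]
    · show x ^ (j - i).val = w * x ^ i.val * (w * x ^ j.val)
      rw [hsub, ← mul_assoc (w * x ^ i.val) w, hconj])

lemma eq_one_of_cube {x a z : Γ} (hx : x ^ 3 = 1) (hz : ∀ u : Γ, u * z * u⁻¹ = z) (hz2 : z * z = 1)
    (e : x * a * x⁻¹ = z * a) : z = 1 := by
  have h2 : x * (x * a * x⁻¹) * x⁻¹ = a := by
    calc x * (x * a * x⁻¹) * x⁻¹ = x * (z * a) * x⁻¹ := by rw [e]
      _ = (x * z * x⁻¹) * (x * a * x⁻¹) := by group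
      _ = z * (z * a) := by rw [hz, e]
      _ = a := by rw [← mul_assoc, hz2, one_mul]
  have h3 : x * a * x⁻¹ = a := by
    calc x * a * x⁻¹ = x * (x * (x * a * x⁻¹) * x⁻¹) * x⁻¹ := by rw [h2]
      _ = x ^ 3 * a * (x ^ 3)⁻¹ := by simp only [pow_succ, pow_zero, one_mul]; group
      _ = a := by rw [hx, one_mul, inv_one, mul_one]
  exact mul_eq_right.mp (e.symm.trans h3)

/-- The data of a split extension of an elementary abelian normal subgroup by `S3`. -/
structure Split (A : Subgroup Γ) (x w : Γ) : Prop where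
  normal : A.Normal
  sq : ∀ a ∈ A, a * a = 1
  hx : x ^ 3 = 1
  hx1 : x ≠ 1
  hw : w * w = 1
  hinv : w * x * w = x⁻¹
  hwA : w ∉ A
  hcard : Nat.card Γ = 6 * Nat.card A
  fixed : ∀ a ∈ A, x * a = a * x → a ∈ center Γ

variable {A : Subgroup Γ} {x w : Γ} (D : Split A x w)
include D

lemma Split.comm {a b : Γ} (ha : a ∈ A) (hb : b ∈ A) : a * b = b * a :=
  calc a * b = (a * b)⁻¹ := (inv_eq_of_mul_eq_one_right (D.sq _ (A.mul_mem ha hb))).symm
    _ = b⁻¹ * a⁻¹ := mul_inv_rev a b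
    _ = b * a := by rw [inv_eq_of_mul_eq_one_right (D.sq a ha), inv_eq_of_mul_eq_one_right (D.sq b hb)]

/-- The complement homomorphism. -/
def Split.comp : DihedralGroup 3 →* Γ := dihHom x w D.hx D.hw D.hinv

lemma Split.x_notMem : x ∉ A := fun h => D.hx1 (by
  have h2 := D.sq x h
  have h3 := D.hx
  rwa [pow_succ, pow_two, h2, one_mul] at h3)

lemma Split.comp_notMem {d : DihedralGroup 3} (hd : D.comp d ∈ A) : d = 1 := by
  have := D.normal
  have hxpow : ∀ i : ZMod 3, x ^ i.val ∈ A → i = 0 := by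
    intro i hi
    by_contra h0
    have hcases : i.val = 1 ∨ i.val = 2 := by
      have := ZMod.val_lt i
      have : i.val ≠ 0 := fun e => h0 ((ZMod.val_eq_zero i).mp e)
      omega
    rcases hcases with e | e <;> rw [e] at hi
    · exact D.x_notMem (by simpa using hi)
    · refine D.x_notMem ?_
      have h : x = (x ^ 2)⁻¹ := by rw [eq_inv_iff_mul_eq_one, ← pow_succ']; exact D.hx
      rw [h]; exact A.inv_mem hi
  rcases d with i | i
  · rw [hxpow i hd]; rfl
  · exfalso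
    change w * x ^ i.val ∈ A at hd
    have h1 : x * (w * x ^ i.val) * x⁻¹ ∈ A := Normal.conj_mem D.normal _ hd x
    have hxw : x * w = w * x⁻¹ := by
      rw [← D.hinv]
      calc x * w = (w * w) * x * w := by rw [D.hw, one_mul]
        _ = w * (w * x * w) := by group
    have e : x * (w * x ^ i.val) * x⁻¹ = w * x⁻¹ * x ^ i.val * x⁻¹ := by
      rw [← mul_assoc x w, hxw]
    have h2 : x⁻¹ * x⁻¹ ∈ A := by
      have h3 := A.mul_mem (A.inv_mem hd) h1
      rw [e] at h3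
      have e2 : (w * x ^ i.val)⁻¹ * (w * x⁻¹ * x ^ i.val * x⁻¹) = x⁻¹ * x⁻¹ := by group
      rwa [e2] at h3
    refine D.x_notMem ?_
    have h : x = x⁻¹ * x⁻¹ := by
      rw [eq_inv_mul_iff_mul_eq, eq_inv_iff_mul_eq_one, mul_assoc, ← pow_two, ← pow_succ']
      exact D.hx
    rw [h]; exact h2

lemma Split.comp_injective : Function.Injective D.comp := by
  rw [← MonoidHom.ker_eq_bot_iff, eq_bot_iff]
  intro d hd
  rw [MonoidHom.mem_ker] at hd
  exact mem_bot.mpr (D.comp_notMem (hd ▸ A.one_mem))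

lemma Split.card_range : Nat.card D.comp.range = 6 := by
  rw [← Nat.card_congr (MonoidHom.ofInjective D.comp_injective).toEquiv, DihedralGroup.nat_card]

lemma Split.disjoint : A ⊓ D.comp.range = ⊥ := by
  rw [eq_bot_iff]
  rintro _ ⟨hy, d, rfl⟩
  rw [D.comp_notMem hy, map_one]
  exact one_mem _

lemma Split.mem_range (d : DihedralGroup 3) : D.comp d ∈ D.comp.range := ⟨d, rfl⟩

lemma Split.x_mem : x ∈ D.comp.range :=
  ⟨r 1, show x ^ (1 : ZMod 3).val = x by rw [ZMod.val_one]; exact pow_one x⟩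

lemma Split.w_mem : w ∈ D.comp.range :=
  ⟨sr 0, show w * x ^ (0 : ZMod 3).val = w by rw [ZMod.val_zero]; simp⟩

/-- An element of the complement centralizing `A` modulo a central subgroup of order at most two
is trivial, unless `A` is central. -/
lemma Split.comp_centralizes {Z : Subgroup Γ} (hZA : Z ≤ A) (hZ : Z ≤ center Γ) (hA : ¬ A ≤ center Γ)
    {s : Γ} (hs : s ∈ D.comp.range) (h : ∀ a ∈ A, s * a * s⁻¹ * a⁻¹ ∈ Z) : s = 1 := by
  obtain ⟨d, rfl⟩ := hs
  by_contra hne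
  -- the set of elements acting trivially modulo `Z`
  let T : Subgroup Γ :=
    { carrier := {t | ∀ a ∈ A, ∃ z ∈ Z, t * a * t⁻¹ = z * a}
      one_mem' := fun a _ => ⟨1, one_mem _, by simp⟩
      mul_mem' := by
        intro p q hp hq a ha
        obtain ⟨z, hz, e⟩ := hq a ha
        obtain ⟨z', hz', e'⟩ := hp a ha
        refine ⟨z * z', mul_mem hz hz', ?_⟩
        calc p * q * a * (p * q)⁻¹ = p * (q * a * q⁻¹) * p⁻¹ := by group
          _ = p * (z * a) * p⁻¹ := by rw [e]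
          _ = (p * z * p⁻¹) * (p * a * p⁻¹) := by group
          _ = z * z' * a := by rw [(mem_center_iff.mp (hZ hz) p), mul_inv_cancel_right, e']; group
      inv_mem' := by
        intro p hp a ha
        obtain ⟨z, hz, e⟩ := hp _ (D.normal.conj_mem a ha p⁻¹)
        refine ⟨z⁻¹, inv_mem hz, ?_⟩
        have e1 : p * (p⁻¹ * a * p⁻¹⁻¹) * p⁻¹ = a := by group
        rw [e1] at e
        conv_rhs => rw [e]
        group }
  have hsT : ∀ {t : Γ}, (∀ a ∈ A, t * a * t⁻¹ * a⁻¹ ∈ Z) → t ∈ T := fun {t} ht a ha =>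
    ⟨_, ht a ha, by group⟩
  have hconj : ∀ {t : Γ}, t ∈ T → ∀ u : Γ, u * t * u⁻¹ ∈ T := by
    intro t ht u a ha
    obtain ⟨z, hz, e⟩ := ht _ (D.normal.conj_mem a ha u⁻¹)
    refine ⟨z, hz, ?_⟩
    calc u * t * u⁻¹ * a * (u * t * u⁻¹)⁻¹ = u * (t * (u⁻¹ * a * u⁻¹⁻¹) * t⁻¹) * u⁻¹ := by group
      _ = (u * z * u⁻¹) * a := by rw [e]; group
      _ = z * a := by rw [(mem_center_iff.mp (hZ hz) u), mul_inv_cancel_right]
  have hxT : x ∈ T := by
    have hd : D.comp d ∈ T := hsT h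
    rcases d with i | i
    · change x ^ i.val ∈ T at hd
      have hcases : i.val = 1 ∨ i.val = 2 := by
        have := ZMod.val_lt i
        have : i.val ≠ 0 := fun e => hne (show x ^ i.val = 1 by rw [e, pow_zero])
        omega
      rcases hcases with e | e <;> rw [e] at hd
      · simpa using hd
      · have h : x = (x ^ 2)⁻¹ := by rw [eq_inv_iff_mul_eq_one, ← pow_succ']; exact D.hx
        rw [h]; exact T.inv_mem hd
    · change w * x ^ i.val ∈ T at hd
      have h1 := T.mul_mem (T.inv_mem hd) (hconj hd x)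
      have e : (w * x ^ i.val)⁻¹ * (x * (w * x ^ i.val) * x⁻¹) = x⁻¹ * x⁻¹ := by
        calc (w * x ^ i.val)⁻¹ * (x * (w * x ^ i.val) * x⁻¹)
            = (x ^ i.val)⁻¹ * (w⁻¹ * x * w) * x ^ i.val * x⁻¹ := by group
          _ = (x ^ i.val)⁻¹ * x⁻¹ * x ^ i.val * x⁻¹ := by
            rw [inv_eq_of_mul_eq_one_right D.hw, D.hinv]
          _ = x⁻¹ * x⁻¹ := by group
      rw [e] at h1
      have h : x = x⁻¹ * x⁻¹ := by
        rw [eq_inv_mul_iff_mul_eq, eq_inv_iff_mul_eq_one, mul_assoc, ← pow_two, ← pow_succ']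
        exact D.hx
      rw [h]; exact h1
  refine hA fun a ha => D.fixed a ha ?_
  obtain ⟨z, hz, e⟩ := hxT a ha
  have hc : ∀ u : Γ, u * z * u⁻¹ = z := fun u => by
    rw [(mem_center_iff.mp (hZ hz) u), mul_inv_cancel_right]
  have hz2 : z * z = 1 := D.sq z (hZA hz)
  have hz1 : z = 1 := eq_one_of_cube D.hx hc hz2 e
  rw [hz1, one_mul] at e
  calc x * a = x * a * x⁻¹ * x := by group
    _ = a * x := by rw [e]

section
variable [Finite Γ]

theorem Split.iso_symm3 (hA : A = ⊥) : Nonempty (Γ ≃* Equiv.Perm (Fin 3)) := by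
  have e1 : DihedralGroup 3 ≃* Γ := MulEquiv.ofBijective D.comp ((Nat.bijective_iff_injective_and_card _).mpr
    ⟨D.comp_injective, by rw [DihedralGroup.nat_card, D.hcard, hA, card_bot]⟩)
  let f : DihedralGroup 3 →* Equiv.Perm (Fin 3) :=
    dihHom (finRotate 3) (Equiv.swap 1 2) (by decide) (by decide) (by decide)
  have hf : Function.Injective f := by
    rw [← MonoidHom.ker_eq_bot_iff, eq_bot_iff]
    intro d hd
    rw [MonoidHom.mem_ker] at hd
    have key : ∀ d : DihedralGroup 3, f d = 1 → d = 1 := by decide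
    exact mem_bot.mpr (key d hd)
  exact ⟨e1.symm.trans (MulEquiv.ofBijective f ((Nat.bijective_iff_injective_and_card _).mpr
    ⟨hf, by rw [DihedralGroup.nat_card, Nat.card_perm, Nat.card_fin]; decide⟩))⟩

theorem Split.iso_dihedral (hA : A ≤ center Γ) (hcA : Nat.card A = 2) : Nonempty (Γ ≃* DihedralGroup 6) := by
  have : Nontrivial A := Finite.one_lt_card_iff_nontrivial.mp (by omega)
  obtain ⟨⟨c, hc⟩, hc1⟩ := exists_ne (1 : A)
  have hc1' : c ≠ 1 := fun e => hc1 (Subtype.ext e)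
  have hcc : ∀ u : Γ, u * c = c * u := mem_center_iff.mp (hA hc)
  have hcx : Commute x c := hcc x
  have hc2 : c ^ 2 = 1 := (pow_two c).trans (D.sq c hc)
  have h6 : (x * c) ^ 6 = 1 := by
    rw [hcx.mul_pow, show (6 : ℕ) = 3 * 2 from rfl, pow_mul, D.hx, one_pow, one_mul, mul_comm 3 2, pow_mul, hc2, one_pow]
  have hinv : w * (x * c) * w = (x * c)⁻¹ := by
    calc w * (x * c) * w = w * x * (c * w) := by group
      _ = w * x * (w * c) := by rw [hcc w]
      _ = w * x * w * c := by group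
      _ = x⁻¹ * c⁻¹ := by rw [D.hinv, inv_eq_of_mul_eq_one_right (D.sq c hc)]
      _ = (x * c)⁻¹ := by rw [← mul_inv_rev, hcx.eq]
  let f := dihHom (n := 6) (x * c) w h6 D.hw hinv
  have hdis : ∀ s ∈ D.comp.range, ∀ a ∈ A, s * a = 1 → s = 1 ∧ a = 1 := by
    intro s hs a ha he
    have hsA : s ∈ A ⊓ D.comp.range := ⟨(eq_inv_of_mul_eq_one_left he) ▸ A.inv_mem ha, hs⟩
    rw [D.disjoint, mem_bot] at hsA
    exact ⟨hsA, by rwa [hsA, one_mul] at he⟩
  have hf : Function.Injective f := by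
    rw [← MonoidHom.ker_eq_bot_iff, eq_bot_iff]
    intro d hd
    rw [MonoidHom.mem_ker] at hd
    rcases d with i | i
    · change (x * c) ^ i.val = 1 at hd
      rw [hcx.mul_pow] at hd
      obtain ⟨h1, h2⟩ := hdis _ (pow_mem D.x_mem _) _ (A.pow_mem hc _) hd
      have d3 : 3 ∣ i.val := (orderOf_eq_prime (hp := ⟨Nat.prime_three⟩) D.hx D.hx1) ▸ orderOf_dvd_of_pow_eq_one h1
      have d2 : 2 ∣ i.val := (orderOf_eq_prime hc2 hc1') ▸ orderOf_dvd_of_pow_eq_one h2
      have hv := ZMod.val_lt i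
      have : i.val = 0 := by omega
      rw [(ZMod.val_eq_zero i).mp this]
      exact mem_bot.mpr rfl
    · exfalso
      change w * (x * c) ^ i.val = 1 at hd
      rw [hcx.mul_pow, ← mul_assoc] at hd
      obtain ⟨h1, -⟩ := hdis _ (mul_mem D.w_mem (pow_mem D.x_mem _)) _ (A.pow_mem hc _) hd
      have hwx : w = (x ^ i.val)⁻¹ := eq_inv_of_mul_eq_one_left h1
      have hcom : w * x * w = x * (w * w) := by
        rw [hwx]; group
      rw [D.hw, mul_one, D.hinv] at hcom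
      refine D.hx1 ?_
      calc x = x ^ 3 * (x * x)⁻¹ := by group
        _ = (x⁻¹ * x)⁻¹ := by rw [D.hx]; nth_rewrite 1 [← hcom]; group
        _ = 1 := by group
  exact ⟨(MulEquiv.ofBijective f ((Nat.bijective_iff_injective_and_card _).mpr
    ⟨hf, by rw [DihedralGroup.nat_card, D.hcard, hcA]⟩)).symm⟩

/-- The action on the four cosets of the complement extended by the centre part. -/
lemma Split.exists_perm_four (hA : ¬ A ≤ center Γ) (hcard4 : Nat.card A = 4 * Nat.card ↥(A ⊓ center Γ)) :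
    ∃ φ : Γ →* Equiv.Perm (Fin 4), φ.ker = A ⊓ center Γ := by
  obtain ⟨Z, hZ⟩ : ∃ Z, Z = A ⊓ center Γ := ⟨_, rfl⟩
  rw [← hZ] at hcard4 ⊢
  have := D.normal
  have hZn : Z.Normal := hZ ▸ inferInstance
  have hdis : Z ⊓ D.comp.range = ⊥ := le_bot_iff.mp (D.disjoint ▸ inf_le_inf_right _ (hZ ▸ inf_le_left))
  have hmem : ∀ {y : Γ}, y ∈ Z ⊔ D.comp.range → ∃ z ∈ Z, ∃ s ∈ D.comp.range, z * s = y := by
    intro y hy
    rw [← SetLike.mem_coe, Subgroup.normal_mul] at hy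
    exact hy
  have hcardT : Nat.card ↥(Z ⊔ D.comp.range) = Nat.card Z * 6 := by
    rw [← D.card_range, ← Nat.card_prod]
    refine (Nat.card_congr (Equiv.ofBijective (fun p : Z × D.comp.range =>
      (⟨(p.1 : Γ) * p.2, mul_mem (mem_sup_left p.1.2) (mem_sup_right p.2.2)⟩ : ↥(Z ⊔ D.comp.range))) ⟨?_, ?_⟩)).symm
    · intro p q hpq
      exact mul_injective_of_disjoint (disjoint_iff.mpr hdis) (congrArg Subtype.val hpq)
    · rintro ⟨y, hy⟩
      obtain ⟨z, hz, s, hs, rfl⟩ := hmem hy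
      exact ⟨(⟨z, hz⟩, ⟨s, hs⟩), rfl⟩
  have hidx : (Z ⊔ D.comp.range).index = 4 := by
    refine Nat.eq_of_mul_eq_mul_left (Nat.card_pos (α := ↥(Z ⊔ D.comp.range))) ?_
    rw [card_mul_index, D.hcard, hcardT, hcard4]
    ring
  obtain ⟨e⟩ : Nonempty ((Γ ⧸ (Z ⊔ D.comp.range)) ≃ Fin 4) :=
    ⟨(Finite.equivFin _).trans (finCongr (by rw [← index_eq_card, hidx]))⟩
  refine ⟨e.permCongrHom.toMonoidHom.comp (MulAction.toPermHom Γ (Γ ⧸ (Z ⊔ D.comp.range))), ?_⟩
  have hk : (e.permCongrHom.toMonoidHom.comp (MulAction.toPermHom Γ (Γ ⧸ (Z ⊔ D.comp.range)))).ker =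
      (Z ⊔ D.comp.range).normalCore := by
    rw [normalCore_eq_ker]; ext y; simp [MonoidHom.mem_ker]
  rw [hk]
  refine le_antisymm (fun y hy => ?_) (normal_le_normalCore.mpr le_sup_left)
  obtain ⟨z, hz, s, hs, rfl⟩ := hmem (normalCore_le _ hy)
  have hsK : s ∈ (Z ⊔ D.comp.range).normalCore := by
    have : z ∈ (Z ⊔ D.comp.range).normalCore := normal_le_normalCore.mpr le_sup_left hz
    simpa using mul_mem (inv_mem this) hy
  have hs1 : s = 1 := by
    refine D.comp_centralizes (Z := Z) (hZ ▸ inf_le_left) (hZ ▸ inf_le_right) hA hs fun a ha => ?_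
    have h1 : s * a * s⁻¹ * a⁻¹ ∈ A := A.mul_mem (D.normal.conj_mem a ha s) (A.inv_mem ha)
    have h2 : s * a * s⁻¹ * a⁻¹ ∈ (Z ⊔ D.comp.range).normalCore := by
      rw [show s * a * s⁻¹ * a⁻¹ = s * (a * s⁻¹ * a⁻¹) by group]
      exact mul_mem hsK ((normalCore_normal _).conj_mem _ (inv_mem hsK) a)
    obtain ⟨z', hz', s', hs', he⟩ := hmem (normalCore_le _ h2)
    have hs'A : s' ∈ A ⊓ D.comp.range := by
      refine ⟨?_, hs'⟩
      rw [show s' = z'⁻¹ * (z' * s') by group, he]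
      exact A.mul_mem (A.inv_mem ((hZ ▸ hz' : z' ∈ A ⊓ center Γ).1)) h1
    rw [D.disjoint, mem_bot] at hs'A
    rw [← he, hs'A, mul_one]
    exact hz'
  rw [hs1, mul_one]
  exact hz

theorem Split.iso_symm4 (hcA : Nat.card A = 4) (hZ : A ⊓ center Γ = ⊥) :
    Nonempty (Γ ≃* Equiv.Perm (Fin 4)) := by
  have hA : ¬ A ≤ center Γ := fun h => by
    rw [inf_eq_left.mpr h] at hZ
    rw [hZ, card_bot] at hcA
    omega
  obtain ⟨φ, hφ⟩ := D.exists_perm_four hA (by rw [hZ, card_bot, hcA])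
  rw [hZ] at hφ
  exact ⟨MulEquiv.ofBijective φ ((Nat.bijective_iff_injective_and_card _).mpr
    ⟨(MonoidHom.ker_eq_bot_iff φ).mp hφ, by rw [D.hcard, hcA, Nat.card_perm, Nat.card_fin]; rfl⟩)⟩

theorem Split.iso_symm4_prod (hcA : Nat.card A = 8) (hZ : Nat.card ↥(A ⊓ center Γ) = 2) :
    Nonempty (Γ ≃* Equiv.Perm (Fin 4) × Multiplicative (ZMod 2)) := by
  have hA : ¬ A ≤ center Γ := fun h => by
    rw [inf_eq_left.mpr h] at hZ
    omega
  have := D.normal
  obtain ⟨φ, hφ⟩ := D.exists_perm_four hA (by rw [hZ, hcA])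
  let κ : A →* A :=
    { toFun := fun a => ⟨a * (x * a * x⁻¹), mul_mem a.2 (D.normal.conj_mem _ a.2 x)⟩
      map_one' := Subtype.ext (by simp)
      map_mul' := fun a b => Subtype.ext (by
        show (a : Γ) * b * (x * (a * b) * x⁻¹) = (a : Γ) * (x * a * x⁻¹) * (b * (x * b * x⁻¹))
        calc (a : Γ) * b * (x * (a * b) * x⁻¹) = (a : Γ) * (b * (x * a * x⁻¹)) * (x * b * x⁻¹) := by group
          _ = (a : Γ) * ((x * a * x⁻¹) * b) * (x * b * x⁻¹) := by
            rw [D.comm b.2 (D.normal.conj_mem _ a.2 x)]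
          _ = _ := by group) }
  have hκ : κ.ker = (A ⊓ center Γ).subgroupOf A := by
    ext a
    rw [MonoidHom.mem_ker, mem_subgroupOf]
    constructor
    · intro ha
      have h1 : (a : Γ) * (x * a * x⁻¹) = 1 := congrArg Subtype.val ha
      have h2 : x * (a : Γ) * x⁻¹ = a := by
        calc x * (a : Γ) * x⁻¹ = ((a : Γ) * a) * (x * a * x⁻¹) := by rw [D.sq a a.2, one_mul]
          _ = (a : Γ) * ((a : Γ) * (x * a * x⁻¹)) := by group
          _ = a := by rw [h1, mul_one]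
      refine ⟨a.2, D.fixed a a.2 ?_⟩
      calc x * (a : Γ) = x * a * x⁻¹ * x := by group
        _ = a * x := by rw [h2]
    · intro ha
      refine Subtype.ext ?_
      show (a : Γ) * (x * a * x⁻¹) = 1
      rw [mem_center_iff.mp ha.2 x, mul_inv_cancel_right, D.sq a a.2]
  obtain ⟨A₀, hA₀⟩ : ∃ A₀, A₀ = κ.range.map A.subtype := ⟨_, rfl⟩
  have hA₀A : A₀ ≤ A := hA₀ ▸ map_subtype_le _
  have hcard0 : Nat.card A₀ = 4 := by
    rw [hA₀, card_map_of_injective (subtype_injective A)]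
    have h1 := κ.ker.card_mul_index
    rw [index_ker, hκ, Nat.card_congr (subgroupOfEquivOfLe inf_le_left).toEquiv, hZ, hcA] at h1
    omega
  have hmem0 : ∀ {y : Γ}, y ∈ A₀ ↔ ∃ a ∈ A, a * (x * a * x⁻¹) = y := by
    intro y
    rw [hA₀]
    constructor
    · rintro ⟨_, ⟨a, rfl⟩, rfl⟩; exact ⟨a, a.2, rfl⟩
    · rintro ⟨a, ha, rfl⟩; exact ⟨κ ⟨a, ha⟩, ⟨_, rfl⟩, rfl⟩
  have hxn : ∀ y ∈ A₀, x * y * x⁻¹ ∈ A₀ := by
    intro y hy
    obtain ⟨a, ha, rfl⟩ := hmem0.mp hy
    exact hmem0.mpr ⟨x * a * x⁻¹, D.normal.conj_mem a ha x, by group⟩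
  have hwn : ∀ y ∈ A₀, w * y * w⁻¹ ∈ A₀ := by
    intro y hy
    obtain ⟨a, ha, rfl⟩ := hmem0.mp hy
    obtain ⟨a', ha'⟩ : ∃ a', a' = w * a * w⁻¹ := ⟨_, rfl⟩
    have ha'A : a' ∈ A := ha' ▸ D.normal.conj_mem a ha w
    refine hmem0.mpr ⟨x⁻¹ * a' * x⁻¹⁻¹, D.normal.conj_mem a' ha'A _, ?_⟩
    have hwi : w⁻¹ = w := inv_eq_of_mul_eq_one_right D.hw
    have hwxw : w * x * w⁻¹ = x⁻¹ := by rw [hwi, D.hinv]
    have e : w * (a * (x * a * x⁻¹)) * w⁻¹ = a' * (x⁻¹ * a' * x⁻¹⁻¹) := by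
      conv_rhs => rw [← hwxw, ha']
      group
    rw [e, D.comm ha'A (D.normal.conj_mem a' ha'A _)]
    group
  have hSn : D.comp.range ≤ normalizer (A₀ : Set Γ) := by
    have key : ∀ u ∈ ({x, w} : Set Γ), u ∈ normalizer (A₀ : Set Γ) := by
      intro u hu
      have hle : A₀.map (MulAut.conj u).toMonoidHom ≤ A₀ := by
        rintro _ ⟨y, hy, rfl⟩
        rcases hu with rfl | rfl
        · exact hxn y hy
        · exact hwn y hy
      have he := eq_of_le_of_card_ge hle (card_map_of_injective (MulAut.conj u).injective).ge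
      rw [mem_normalizer_iff]
      intro y
      refine ⟨fun hy => hle ⟨y, hy, rfl⟩, fun hy => ?_⟩
      rw [← he] at hy
      obtain ⟨z, hz, hzy⟩ := hy
      simp only [MulEquiv.toMonoidHom_eq_coe, MonoidHom.coe_coe, MulAut.conj_apply, mul_left_inj, mul_right_inj] at hzy
      exact hzy ▸ hz
    rintro _ ⟨d, rfl⟩
    rcases d with i | i
    · exact pow_mem (key x (Set.mem_insert _ _)) _
    · exact mul_mem (key w (Set.mem_insert_of_mem _ rfl)) (pow_mem (key x (Set.mem_insert _ _)) _)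
  obtain ⟨M, hM⟩ : ∃ M, M = A₀ ⊔ D.comp.range := ⟨_, rfl⟩
  have hmemM : ∀ {y : Γ}, y ∈ M → ∃ a ∈ A₀, ∃ s ∈ D.comp.range, a * s = y := by
    intro y hy
    rw [hM, ← SetLike.mem_coe, coe_mul_of_right_le_normalizer_left _ _ hSn] at hy
    exact hy
  have hdis : A₀ ⊓ D.comp.range = ⊥ := le_bot_iff.mp (D.disjoint ▸ inf_le_inf_right _ hA₀A)
  have hcardM : Nat.card M = 24 := by
    have : Nat.card (A₀ × D.comp.range) = 24 := by rw [Nat.card_prod, hcard0, D.card_range]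
    rw [← this]
    refine (Nat.card_congr (Equiv.ofBijective (fun p : A₀ × D.comp.range =>
      (⟨(p.1 : Γ) * p.2, hM ▸ mul_mem (mem_sup_left p.1.2) (mem_sup_right p.2.2)⟩ : ↥M)) ⟨?_, ?_⟩)).symm
    · intro p q hpq
      exact mul_injective_of_disjoint (disjoint_iff.mpr hdis) (congrArg Subtype.val hpq)
    · rintro ⟨y, hy⟩
      obtain ⟨a, ha, s, hs, rfl⟩ := hmemM hy
      exact ⟨(⟨a, ha⟩, ⟨s, hs⟩), rfl⟩
  have hMidx : M.index = 2 := by
    have h1 := M.card_mul_index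
    rw [hcardM, D.hcard, hcA] at h1
    omega
  have hMn : M.Normal := normal_of_index_eq_two hMidx
  have hMZ : A ⊓ center Γ ⊓ M = ⊥ := by
    rw [eq_bot_iff]
    rintro c ⟨⟨hcA', hcc⟩, hcM⟩
    obtain ⟨a, ha, s, hs, rfl⟩ := hmemM hcM
    have hs1 : s ∈ A ⊓ D.comp.range := ⟨by
      rw [show s = a⁻¹ * (a * s) by group]; exact A.mul_mem (A.inv_mem (hA₀A ha)) hcA', hs⟩
    rw [D.disjoint, mem_bot] at hs1
    rw [hs1, mul_one] at hcA' hcc ⊢
    obtain ⟨b, hb, hab⟩ := hmem0.mp ha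
    have hax : x * b * x⁻¹ = b * a := by
      rw [← hab, ← mul_assoc, D.sq b hb, one_mul]
    have hca : ∀ u : Γ, u * a * u⁻¹ = a := fun u => by rw [mem_center_iff.mp hcc u, mul_inv_cancel_right]
    have ha2 : a * a = 1 := D.sq a (hA₀A ha)
    exact mem_bot.mpr (eq_one_of_cube D.hx hca ha2 (hax.trans (mem_center_iff.mp hcc b)))
  have hp : Nat.card (Γ ⧸ M) = 2 := by rw [← index_eq_card, hMidx]
  have : Fact (Nat.Prime 2) := ⟨Nat.prime_two⟩
  let e2 : Γ ⧸ M ≃* Multiplicative (ZMod 2) :=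
    mulEquivOfPrimeCardEq (p := 2) hp (by rw [Nat.card_congr Multiplicative.toAdd, Nat.card_zmod])
  let Ψ : Γ →* Equiv.Perm (Fin 4) × Multiplicative (ZMod 2) :=
    φ.prod (e2.toMonoidHom.comp (QuotientGroup.mk' M))
  have hΨ : Function.Injective Ψ := by
    rw [← MonoidHom.ker_eq_bot_iff, eq_bot_iff]
    intro y hy
    have hy' : φ y = 1 ∧ e2 (QuotientGroup.mk' M y) = 1 := Prod.ext_iff.mp hy
    rw [← hMZ]
    refine ⟨hφ ▸ hy'.1, ?_⟩
    exact (QuotientGroup.eq_one_iff y).mp (e2.map_eq_one_iff.mp hy'.2)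
  exact ⟨MulEquiv.ofBijective Ψ ((Nat.bijective_iff_injective_and_card _).mpr
    ⟨hΨ, by rw [D.hcard, hcA, Nat.card_prod, Nat.card_perm, Nat.card_fin, Nat.card_congr Multiplicative.toAdd, Nat.card_zmod]; rfl⟩)⟩

end

end CfsgLib.Recognition.SubdegThree
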