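import Cfsg.Agent.Lib.Recognition.SubdegThree.Bound
import Cfsg.Agent.Lib.Recognition.SubdegThree.Identify

/-!
# The structure of a stabilizer with an orbit of length three
-/

set_option autoImplicit false

namespace CfsgLib.Recognition.SubdegThree

open Subgroup CfsgLib.Maximal.TW
open scoped commutatorElement

variable {G : Type*} [Group G] [Finite G] {H L : Subgroup G} {g : G}

local notation "Ac" => coreIn H L
local notation "Zc" => omegaCenter L

section
variable (D : Data H L g) (hnL : ¬ H ≤ normalizer (L : Set G))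
include D hnL

lemma Data.exists_inverting {w : G} (hw : w ∈ L) (hwA : w ∉ Ac) (hw2 : w * w = 1) :
    ∃ x ∈ H, x ∉ L ∧ x ^ 3 = 1 ∧ x ≠ 1 ∧ w * x * w = x⁻¹ := by
  obtain ⟨h, hh, hhL⟩ := SetLike.not_le_iff_exists.mp (fun h : H ≤ L => hnL (h.trans le_normalizer))
  obtain ⟨w', hw'⟩ : ∃ w', w' = h * w * h⁻¹ := ⟨_, rfl⟩
  have hw'2 : w' * w' = 1 := by
    rw [hw', show h * w * h⁻¹ * (h * w * h⁻¹) = h * (w * w) * h⁻¹ by group, hw2]; group
  have hw'H : w' ∈ H := hw' ▸ H.mul_mem (H.mul_mem hh (D.hLH hw)) (H.inv_mem hh)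
  obtain ⟨p, hp⟩ : ∃ p, p = w * w' := ⟨_, rfl⟩
  have hwi : w⁻¹ = w := inv_eq_of_mul_eq_one_right hw2
  have hpinv : w * p * w⁻¹ = p⁻¹ := by
    rw [hp, mul_inv_rev, hwi, inv_eq_of_mul_eq_one_right hw'2, ← mul_assoc w w, hw2, one_mul]
  have hpH : p ∈ H := hp ▸ H.mul_mem (D.hLH hw) hw'H
  obtain ⟨k, hk⟩ := IsPGroup.iff_card.mp D.h2
  have hcard : Nat.card H = 2 ^ k * 3 := by
    rw [← relIndex_bot_left, ← relIndex_mul_relIndex ⊥ L H bot_le D.hLH, D.hidx, relIndex_bot_left, hk]
  have hx3 : (p ^ (2 ^ k)) ^ 3 = 1 := by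
    rw [← pow_mul, ← hcard]
    exact congrArg Subtype.val (pow_card_eq_one' (x := (⟨p, hpH⟩ : H)))
  have hx1 : p ^ (2 ^ k) ≠ 1 := by
    intro h1
    have : Fact (Nat.Prime 2) := ⟨Nat.prime_two⟩
    have hP : IsPGroup 2 (zpowers p) := IsPGroup.of_card_dvd_pow (by rw [Nat.card_zpowers]; exact orderOf_dvd_of_pow_eq_one h1)
    have hW : IsPGroup 2 (zpowers w) := IsPGroup.of_card_dvd_pow (n := 1) (by
      rw [Nat.card_zpowers, pow_one]; exact orderOf_dvd_of_pow_eq_one (by rw [pow_two, hw2]))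
    have hn : zpowers w ≤ normalizer (zpowers p : Set G) := (zpowers_le).mpr (mem_normalizer_of_conj fun y hy => by
      obtain ⟨i, rfl⟩ := hy
      refine ⟨-i, ?_⟩
      show p ^ (-i) = w * p ^ i * w⁻¹
      rw [← conj_zpow, hpinv, inv_zpow'])
    have hS : IsPGroup 2 (zpowers p ⊔ zpowers w : Subgroup G) := IsPGroup.to_sup_of_normal_left' hP hW hn
    have hSH : zpowers p ⊔ zpowers w ≤ H := sup_le ((zpowers_le).mpr hpH) ((zpowers_le).mpr (D.hLH hw))
    have hT : IsPGroup 2 (coreIn H L ⊔ (zpowers p ⊔ zpowers w) : Subgroup G) :=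
      IsPGroup.to_sup_of_normal_left' (D.h2.to_le D.core_le) hS (hSH.trans D.core_normal)
    have hLT : L ≤ coreIn H L ⊔ (zpowers p ⊔ zpowers w) := by
      intro l hl
      by_cases hlA : l ∈ Ac
      · exact mem_sup_left hlA
      · rw [show l = w * (w⁻¹ * l) by group, hwi]
        exact mul_mem (mem_sup_right (mem_sup_right (mem_zpowers w))) (mem_sup_left (D.mul_mem_core hnL hw hl hwA hlA))
    rcases D.eq_of_lt hLT (sup_le (D.core_le.trans D.hLH) hSH) with e | e
    · have hpL : p ∈ L := e ▸ mem_sup_right (mem_sup_left (mem_zpowers p))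
      have hw'L : w' ∈ L := by
        rw [show w' = w⁻¹ * p by rw [hp]; group]
        exact L.mul_mem (L.inv_mem hw) hpL
      have hmem : w' ∈ Ac := by
        rw [← D.inf_cj hnL hh hhL]
        exact ⟨hw'L, hw' ▸ ⟨w, hw, rfl⟩⟩
      refine hwA ?_
      have := (mem_normalizer_iff.mp (D.core_normal (H.inv_mem hh)) w').mp hmem
      rwa [hw', show h⁻¹ * (h * w * h⁻¹) * h⁻¹⁻¹ = w by group] at this
    · exact D.not_pgroup (hT.to_le e.ge)
  refine ⟨p ^ (2 ^ k), H.pow_mem hpH _, fun hm => hx1 ?_, hx3, hx1, ?_⟩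
  · obtain ⟨j, hj⟩ := D.h2 ⟨_, hm⟩
    have hj' : (p ^ (2 ^ k)) ^ (2 ^ j) = 1 := congrArg Subtype.val hj
    exact orderOf_eq_one_iff.mp (Nat.eq_one_of_dvd_coprimes
      ((Nat.coprime_primes Nat.prime_three Nat.prime_two).mpr (by decide) |>.pow_right j)
      (orderOf_dvd_of_pow_eq_one hx3) (orderOf_dvd_of_pow_eq_one hj'))
  · calc w * p ^ (2 ^ k) * w = w * p ^ (2 ^ k) * w⁻¹ := by rw [hwi]
      _ = (p ^ (2 ^ k))⁻¹ := by rw [← conj_pow, hpinv, inv_pow]

lemma Data.core_inf_center :
    (Ac).subgroupOf H ⊓ center H = (Ac ⊓ centralizer (H : Set G)).subgroupOf H := by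
  ext y
  simp only [mem_inf, mem_subgroupOf, mem_center_iff, mem_centralizer_iff]
  exact and_congr_right fun _ => ⟨fun h k hk => congrArg Subtype.val (h ⟨k, hk⟩), fun h k => Subtype.ext (h k k.2)⟩

lemma Data.card_inf_center :
    Nat.card ↥((Ac).subgroupOf H ⊓ center H) = Nat.card ↥(Ac ⊓ centralizer (H : Set G)) := by
  rw [D.core_inf_center hnL]
  exact Nat.card_congr (subgroupOfEquivOfLe (inf_le_left.trans (D.core_le.trans D.hLH))).toEquiv

lemma Data.split {w x : G} (hA2 : ∀ a ∈ Ac, a * a = 1) (hwH : w ∈ H) (hwA : w ∉ Ac) (hw2 : w * w = 1)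
    (hxH : x ∈ H) (hx3 : x ^ 3 = 1) (hx1 : x ≠ 1) (hinv : w * x * w = x⁻¹)
    (hfix : ∀ a ∈ Ac, x * a = a * x → a ∈ centralizer (H : Set G)) :
    Split ((Ac).subgroupOf H) (⟨x, hxH⟩ : H) ⟨w, hwH⟩ where
  normal := (normal_subgroupOf_iff_le_normalizer (D.core_le.trans D.hLH)).mpr D.core_normal
  sq a ha := Subtype.ext (hA2 a ha)
  hx := Subtype.ext (by rw [SubgroupClass.coe_pow]; exact hx3)
  hx1 h := hx1 (congrArg Subtype.val h)
  hw := Subtype.ext hw2
  hinv := Subtype.ext hinv
  hwA := hwA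
  hcard := by
    rw [Nat.card_congr (subgroupOfEquivOfLe (D.core_le.trans D.hLH)).toEquiv, ← relIndex_bot_left,
      ← relIndex_bot_left, ← relIndex_mul_relIndex ⊥ (coreIn H L) H bot_le (D.core_le.trans D.hLH),
      ← relIndex_mul_relIndex (coreIn H L) L H D.core_le D.hLH, D.core_relIndex hnL, D.hidx, mul_comm]
  fixed a ha h := mem_center_iff.mpr fun k =>
    Subtype.ext (mem_centralizer_iff.mp (hfix a ha (congrArg Subtype.val h)) k k.2)

end

/-- The five possible stabilizers. -/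
def FiveCases (H : Type*) [Group H] : Prop :=
  Nonempty (H ≃* Multiplicative (ZMod 3)) ∨ Nonempty (H ≃* Equiv.Perm (Fin 3)) ∨
    Nonempty (H ≃* DihedralGroup 6) ∨ Nonempty (H ≃* Equiv.Perm (Fin 4)) ∨
    Nonempty (H ≃* Equiv.Perm (Fin 4) × Multiplicative (ZMod 2))

theorem Data.five_cases (D : Data H L g) : FiveCases H := by
  by_cases hnL : H ≤ normalizer (L : Set G)
  · have hL : L = ⊥ := D.eq_bot D.hLH hnL D.hg D.hgH
    have hc : Nat.card H = 3 := by rw [← relIndex_bot_left, ← hL, D.hidx]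
    have : Fact (Nat.Prime 3) := ⟨Nat.prime_three⟩
    exact Or.inl ⟨mulEquivOfPrimeCardEq hc (by rw [Nat.card_congr Multiplicative.toAdd, Nat.card_zmod])⟩
  by_cases hZA : Zc ≤ Ac
  · obtain ⟨hA2, hi2, hi2', hc1, ⟨w, hw, hwA, hw2⟩, hy⟩ := D.structure_of_le hnL hZA
    obtain ⟨x, hxH, hxL, hx3, hx1, hinv⟩ := D.exists_inverting hnL hw hwA hw2
    have hcentral : ∀ y ∈ Zc, x * y = y * x → y ∈ centralizer (H : Set G) := by
      intro y hyZ hxy
      rw [mem_centralizer_iff]
      intro k hk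
      have hT := D.eq_top_of_mem (T := H ⊓ centralizer ({y} : Set G))
        (le_inf D.hLH fun l hl => mem_centralizer_singleton_iff.mpr (mem_centralizer_iff.mp hyZ.2.1 l hl))
        inf_le_left (y := x) ⟨hxH, mem_centralizer_singleton_iff.mpr hxy⟩ hxL
      exact mem_centralizer_singleton_iff.mp (hT.ge hk).2
    have S := D.split hnL hA2 (D.hLH hw) hwA hw2 hxH hx3 hx1 hinv (fun a ha hxa => by
      by_cases haZ : a ∈ Zc
      · exact hcentral a haZ hxa
      obtain ⟨he, hne⟩ := hy a ha haZ w hw hwA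
      refine absurd (hcentral _ he ?_) hne
      have hwi : w⁻¹ = w := inv_eq_of_mul_eq_one_right hw2
      have hxi : x⁻¹ * a = a * x⁻¹ := (Commute.inv_left hxa).eq
      have hwx : x * w = w * x⁻¹ := by
        rw [← hinv]
        calc x * w = (w * w) * x * w := by rw [hw2, one_mul]
          _ = w * (w * x * w) := by group
      have hxw : x⁻¹ * w = w * x := by
        calc x⁻¹ * w = (w * x * w) * w := by rw [hinv]
          _ = w * x * (w * w) := by group
          _ = w * x := by rw [hw2, mul_one]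
      rw [hwi]
      calc x * (a * (w * a * w)) = (x * a) * (w * a * w) := by group
        _ = a * (x * w) * a * w := by rw [hxa]; group
        _ = a * w * (x⁻¹ * a) * w := by rw [hwx]; group
        _ = a * w * a * (x⁻¹ * w) := by rw [hxi]; group
        _ = a * (w * a * w) * x := by rw [hxw]; group)
    have hAcent : Ac ⊓ centralizer (H : Set G) = Zc ⊓ centralizer (H : Set G) :=
      le_antisymm (fun y ⟨hyA, hyc⟩ => ⟨⟨D.core_le hyA, mem_centralizer_iff.mpr fun l hl =>
        mem_centralizer_iff.mp hyc l (D.hLH hl), hA2 y hyA⟩, hyc⟩) (inf_le_inf_right _ hZA)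
    have hcA : Nat.card ↥((Ac).subgroupOf H) = 4 * Nat.card ↥(Zc ⊓ centralizer (H : Set G)) := by
      rw [Nat.card_congr (subgroupOfEquivOfLe (D.core_le.trans D.hLH)).toEquiv, ← relIndex_bot_left,
        ← relIndex_bot_left, ← relIndex_mul_relIndex ⊥ (Zc) (coreIn H L) bot_le hZA,
        ← relIndex_mul_relIndex ⊥ (Zc ⊓ centralizer (H : Set G)) (Zc) bot_le inf_le_left, hi2, hi2']
      ring
    have hpos : 0 < Nat.card ↥(Zc ⊓ centralizer (H : Set G)) := Nat.card_pos
    have hz : Nat.card ↥((Ac).subgroupOf H ⊓ center H) = Nat.card ↥(Zc ⊓ centralizer (H : Set G)) := by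
      rw [D.card_inf_center hnL, hAcent]
    rcases (by omega : Nat.card ↥(Zc ⊓ centralizer (H : Set G)) = 1 ∨
      Nat.card ↥(Zc ⊓ centralizer (H : Set G)) = 2) with h | h
    · rw [h] at hcA hz
      exact Or.inr (Or.inr (Or.inr (Or.inl (S.iso_symm4 hcA (eq_bot_of_card_eq _ hz)))))
    · rw [h] at hcA hz
      exact Or.inr (Or.inr (Or.inr (Or.inr (S.iso_symm4_prod hcA hz))))
  · obtain ⟨z, hz, hzA⟩ := SetLike.not_le_iff_exists.mp hZA
    have hzc : ∀ l ∈ L, l * z = z * l := fun l hl => mem_centralizer_iff.mp hz.2.1 l hl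
    have hSA : squares L ≤ squares Ac := by
      refine (closure_le _).mpr ?_
      rintro _ ⟨x, hx, rfl⟩
      by_cases hxA : x ∈ Ac
      · exact sq_mem_squares hxA
      have e : x * x = (x * z) * (x * z) := by
        calc x * x = x * x * (z * z) := by rw [hz.2.2, mul_one]
          _ = x * (x * z) * z := by group
          _ = x * (z * x) * z := by rw [hzc x hx]
          _ = _ := by group
      show x * x ∈ _
      rw [e]
      exact sq_mem_squares (D.mul_mem_core hnL hx hz.1 hxA hzA)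
    have hS : squares L = ⊥ := by
      refine D.eq_bot_of_cj ((squares_le _).trans D.hLH) (fun k hk => mem_normalizer_of_conj fun y hy => ?_)
        (n := g) ?_ D.hgH
      · have h1 : cj k (squares Ac) = squares Ac := by rw [cj, map_squares, ← cj, D.cj_core hnL hk]
        exact squares_mono D.core_le (h1.le ⟨y, hSA hy, rfl⟩)
      · rw [cj, map_squares, ← cj, D.cj_L hnL D.hg]
    have hL2 : ∀ a ∈ L, a * a = 1 := fun a ha => mem_bot.mp (hS ▸ sq_mem_squares ha)
    have hT : H ≤ centralizer (Ac : Set G) := by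
      rcases D.eq_of_lt (T := H ⊓ centralizer (Ac : Set G)) (le_inf D.hLH fun l hl => mem_centralizer_iff.mpr
        fun a ha => comm_of_sq (hL2 a (D.core_le ha)) (hL2 l hl) (hL2 _ (L.mul_mem (D.core_le ha) hl))) inf_le_left with e | e
      · exact absurd (e ▸ (le_inf le_normalizer (le_normalizer_centralizer D.core_normal)).trans
          inf_normalizer_le_normalizer_inf) hnL
      · exact e.ge.trans inf_le_right
    have hcc : Ac ≤ centralizer (H : Set G) := le_centralizer_iff.mp hT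
    obtain ⟨x, hxH, hxL, hx3, hx1, hinv⟩ := D.exists_inverting hnL hz.1 hzA hz.2.2
    have S := D.split hnL (fun a ha => hL2 a (D.core_le ha)) (D.hLH hz.1) hzA hz.2.2 hxH hx3 hx1 hinv
      (fun a ha _ => hcc ha)
    have hcard : Nat.card (Ac : Subgroup G) ≤ 2 := by
      have hdis : Ac ⊓ cj g Ac = ⊥ := by
        obtain ⟨k, hk, hkH⟩ : ∃ k ∈ cj g H, k ∉ H := by
          by_contra! hsub
          refine D.hgH (D.normalizer_eq_self ▸ mem_normalizer_of_conj fun y hy => hsub _ ⟨y, hy, rfl⟩)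
        refine D.eq_bot (inf_le_left.trans (D.core_le.trans D.hLH)) ?_ (n := k) ?_ hkH
        · intro t ht
          refine mem_normalizer_of_conj fun y hy => ?_
          rw [mem_centralizer_iff.mp (hcc hy.1) t ht, mul_inv_cancel_right]; exact hy
        · refine mem_normalizer_of_conj fun y hy => ?_
          have e1 : (g⁻¹ * k * g) * (g⁻¹ * y * g) * (g⁻¹ * k * g)⁻¹ = g⁻¹ * y * g := by
            rw [mem_centralizer_iff.mp (hcc (mem_cj.mp hy.2)) _ (mem_cj.mp hk), mul_inv_cancel_right]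
          rw [show k * y * k⁻¹ = g * (g⁻¹ * k * g * (g⁻¹ * y * g) * (g⁻¹ * k * g)⁻¹) * g⁻¹ by group, e1,
            show g * (g⁻¹ * y * g) * g⁻¹ = y by group]
          exact hy
      have e2 : (coreIn H L).relIndex (cj g (coreIn H L)) ≤ (coreIn H L).relIndex L := Nat.le_of_dvd
        (Nat.pos_of_ne_zero index_ne_zero_of_finite)
        (AltSub.relIndex_dvd_relIndex ((cj_mono D.core_le).trans (D.cj_L hnL D.hg).le)
          (D.hLH.trans D.core_normal))
      rw [← inf_relIndex_right, hdis, relIndex_bot_left, D.core_relIndex hnL,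
        card_map_of_injective (f := (MulAut.conj g).toMonoidHom) (MulAut.conj g).injective] at e2
      exact e2
    have hpos : 0 < Nat.card (Ac : Subgroup G) := Nat.card_pos
    have hce : Nat.card ↥((Ac).subgroupOf H) = Nat.card (Ac : Subgroup G) :=
      Nat.card_congr (subgroupOfEquivOfLe (D.core_le.trans D.hLH)).toEquiv
    rcases (by omega : Nat.card (Ac : Subgroup G) = 1 ∨ Nat.card (Ac : Subgroup G) = 2) with h | h
    · exact Or.inr (Or.inl (S.iso_symm3 (eq_bot_of_card_eq _ (hce.trans h))))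
    · refine Or.inr (Or.inr (Or.inl (S.iso_dihedral ?_ (hce.trans h))))
      intro y hy
      exact mem_center_iff.mpr fun k => Subtype.ext (mem_centralizer_iff.mp (hcc hy) k k.2)

/-- The arc stabilizer of a suborbit of length three is a 2-group. -/
lemma isPGroup_two {K : Subgroup G} (hH : IsCoatom H) (hHcore : H.normalCore = ⊥) {u : G}
    (hK : cj u H = K) (hne : H ≠ K) (hLH : L ≤ H) (hLK : L ≤ K)
    (hidx : L.relIndex H = 3) (hidx' : L.relIndex K = 3) : IsPGroup 2 L := by
  have : Fact (Nat.Prime 2) := ⟨Nat.prime_two⟩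
  refine isPGroup_of_pres_eq_bot (by_contra fun hne' => hne ?_)
  have key : ∀ M : Subgroup G, L ≤ M → L.relIndex M = 3 → M ≤ normalizer (pres 2 L : Set G) := by
    intro M hLM hM
    have hle : coreIn M L ≤ L := coreIn_le_right M L
    have h1 : (coreIn M L).relIndex L ∣ 2 := by
      have h2 : ((L.subgroupOf M).normalCore).index ∣ Nat.factorial 3 := by
        have := WielandtBound.normalCore_index_dvd (L.subgroupOf M)
        rwa [show (L.subgroupOf M).index = 3 from hM] at this
      rw [← AltSub.coreIn_subgroupOf] at h2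
      change (coreIn M L).relIndex M ∣ _ at h2
      rw [← relIndex_mul_relIndex _ L M hle hLM, hM] at h2
      exact Nat.dvd_of_mul_dvd_mul_right (by norm_num : 0 < 3) h2
    have heq : pres 2 L = pres 2 (coreIn M L) := by
      refine le_antisymm ((closure_le _).mpr ?_) (closure_mono fun y hy => ⟨hle hy.1, hy.2⟩)
      rintro y ⟨hy, hodd⟩
      refine subset_closure ⟨?_, hodd⟩
      have hn : ((coreIn M L).subgroupOf L).Normal :=
        (normal_subgroupOf_iff_le_normalizer hle).mpr (hLM.trans (le_normalizer_coreIn M L))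
      let π := QuotientGroup.mk' ((coreIn M L).subgroupOf L)
      have h3 : orderOf (π ⟨y, hy⟩) ∣ 2 := (_root_.orderOf_dvd_natCard _).trans h1
      have h4 : orderOf (π ⟨y, hy⟩) ∣ orderOf y := by
        rw [← Subgroup.orderOf_mk y hy]; exact orderOf_map_dvd π _
      exact (QuotientGroup.eq_one_iff (⟨y, hy⟩ : L)).mp
        (orderOf_eq_one_iff.mp (Nat.eq_one_of_dvd_coprimes hodd h4 h3))
    rw [heq]
    exact (le_normalizer_coreIn M L).trans (normalizer_le_normalizer_pres 2 _)
  have hN := normalizer_eq hH hHcore ((pres_le 2 L).trans hLH) hne' (key H hLH hidx)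
  exact (eq_of_le_of_card_ge (hN ▸ key K hLK hidx')
    (by rw [← hK]; exact (card_map_of_injective (MulAut.conj u).injective).ge)).symm

/-- Build the data from two conjugate maximal subgroups meeting with index three. -/
lemma exists_data {K : Subgroup G} (hH : IsCoatom H) (hHcore : H.normalCore = ⊥) {u : G}
    (hK : cj u H = K) (hne : H ≠ K) (hLH : L ≤ H) (hLK : L ≤ K)
    (hidx : L.relIndex H = 3) (hidx' : L.relIndex K = 3) : ∃ g, Data H L g := by
  have : Fact (Nat.Prime 2) := ⟨Nat.prime_two⟩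
  have h2 : IsPGroup 2 L := isPGroup_two hH hHcore hK hne hLH hLK hidx hidx'
  have hPK : cj u L ≤ K := hK ▸ cj_mono hLH
  have hP : IsPGroup 2 ((cj u L).subgroupOf K) := (h2.map _).of_equiv (subgroupOfEquivOfLe hPK).symm
  have : Finite (K ⧸ L.subgroupOf K) := inferInstance
  obtain ⟨q, hq⟩ := hP.nonempty_fixed_point_of_prime_not_dvd_card (K ⧸ L.subgroupOf K)
    (by rw [← index_eq_card, show (L.subgroupOf K).index = 3 from hidx']; decide)
  obtain ⟨k, rfl⟩ := QuotientGroup.mk_surjective q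
  refine ⟨(k : G)⁻¹ * u, hH, hHcore, hLH, hidx, mem_normalizer_of_conj fun y hy => ?_, fun hmem => hne ?_, h2⟩
  · have hm : u * y * u⁻¹ ∈ cj u L := ⟨y, hy, rfl⟩
    have hfix : (⟨u * y * u⁻¹, hPK hm⟩ : K) • (k : K ⧸ L.subgroupOf K) = k := hq ⟨⟨_, hPK hm⟩, hm⟩
    rw [MulAction.Quotient.smul_mk, smul_eq_mul, QuotientGroup.eq, mem_subgroupOf] at hfix
    have h3 := L.inv_mem hfix
    simpa [mul_assoc] using h3
  · rw [← hK]
    have h1 : cj ((k : G)⁻¹ * u) H = H := AltSub.map_conj_eq (le_normalizer hmem)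
    rw [← cj_cj, show cj (k : G)⁻¹ (cj u H) = cj u H from ?_] at h1
    · exact h1.symm
    · rw [hK]
      exact AltSub.map_conj_eq (le_normalizer (K.inv_mem k.2))

end CfsgLib.Recognition.SubdegThree
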